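import Groth.Agent.PicTors.Kummer
import Groth.Prelude.Def_EtCore
import Mathlib.Data.ZMod.QuotientGroup
import Mathlib.Algebra.Category.Grp.EpiMono

/-!
# Torsion of the first cohomology with constant finite coefficients
-/

set_option autoImplicit false
set_option maxHeartbeats 800000
set_option linter.style.haveILetI false
set_option backward.isDefEq.respectTransparency false
set_option backward.isDefEq.respectTransparency.types false

universe u

open CategoryTheory CategoryTheory.Limits AlgebraicGeometry Opposite CategoryTheory.Abelian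

noncomputable section

namespace Groth.Agent.CurveKummer

open Groth.Agent

/-- Multiplication by `b` from `ZMod a` to `ZMod n`. -/
def zmul {a b n : ℕ} (h : a * b = n) : ZMod a →+ ZMod n :=
  ZMod.lift a ⟨AddMonoidHom.mk' (fun z : ℤ => ((b * z : ℤ) : ZMod n)) fun y z => by rw [mul_add, Int.cast_add], by
    show ((b * (a : ℤ) : ℤ) : ZMod n) = 0
    rw [mul_comm, ← Nat.cast_mul, h, Int.cast_natCast, ZMod.natCast_self]⟩

theorem zmul_coe {a b n : ℕ} (h : a * b = n) (z : ℤ) : zmul h (z : ZMod a) = ((b * z : ℤ) : ZMod n) :=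
  ZMod.lift_coe a _ z

/-- The reduction from `ZMod n` to `ZMod b`. -/
def zred {a b n : ℕ} (h : a * b = n) : ZMod n →+ ZMod b :=
  (ZMod.castHom (Dvd.intro_left a h) (ZMod b)).toAddMonoidHom

theorem zred_coe {a b n : ℕ} (h : a * b = n) (z : ℤ) : zred h (z : ZMod n) = (z : ZMod b) :=
  map_intCast (ZMod.castHom (Dvd.intro_left a h) (ZMod b)) z

theorem zmul_zred {a b n : ℕ} (h : a * b = n) (h' : b * a = n) (x : ZMod n) : zmul h' (zred h x) = a • x := by
  obtain ⟨z, rfl⟩ := ZMod.intCast_surjective x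
  rw [zred_coe, zmul_coe, nsmul_eq_mul, Int.cast_mul, Int.cast_natCast]

theorem zred_zmul {a b n : ℕ} (h : a * b = n) (x : ZMod a) : zred h (zmul h x) = 0 := by
  obtain ⟨z, rfl⟩ := ZMod.intCast_surjective x
  rw [zmul_coe, zred_coe, Int.cast_mul, Int.cast_natCast, ZMod.natCast_self, zero_mul]

theorem zmul_injective {a b n : ℕ} [NeZero n] (h : a * b = n) : Function.Injective (zmul h) := by
  rw [injective_iff_map_eq_zero]
  intro x hx
  obtain ⟨z, rfl⟩ := ZMod.intCast_surjective x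
  rw [zmul_coe, ZMod.intCast_zmod_eq_zero_iff_dvd, ← h] at hx
  rw [ZMod.intCast_zmod_eq_zero_iff_dvd]
  have hb : (b : ℤ) ≠ 0 := by
    rintro hb
    exact NeZero.ne n (by rw [← h, Int.natCast_eq_zero.1 hb, mul_zero])
  rw [Nat.cast_mul, mul_comm (a : ℤ)] at hx
  exact (mul_dvd_mul_iff_left hb).1 hx

theorem exists_zmul_eq {a b n : ℕ} (h : a * b = n) {x : ZMod n} (hx : zred h x = 0) : ∃ y, zmul h y = x := by
  obtain ⟨z, rfl⟩ := ZMod.intCast_surjective x
  rw [zred_coe, ZMod.intCast_zmod_eq_zero_iff_dvd] at hx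
  obtain ⟨c, rfl⟩ := hx
  exact ⟨(c : ZMod a), zmul_coe h c⟩

/-- The sequence `ZMod a → ZMod n → ZMod b`. -/
def zSeq {a b n : ℕ} (h : a * b = n) : ShortComplex AddCommGrpCat.{u + 1} :=
  ShortComplex.mk
    (AddCommGrpCat.ofHom (AddEquiv.ulift.symm.toAddMonoidHom.comp ((zmul h).comp AddEquiv.ulift.toAddMonoidHom)) :
      AddCommGrpCat.of (ULift.{u + 1} (ZMod a)) ⟶ AddCommGrpCat.of (ULift.{u + 1} (ZMod n)))
    (AddCommGrpCat.ofHom (AddEquiv.ulift.symm.toAddMonoidHom.comp ((zred h).comp AddEquiv.ulift.toAddMonoidHom)) :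
      AddCommGrpCat.of (ULift.{u + 1} (ZMod n)) ⟶ AddCommGrpCat.of (ULift.{u + 1} (ZMod b)))
    (by ext x; exact zred_zmul h _)

theorem zSeq_shortExact {a b n : ℕ} [NeZero n] (h : a * b = n) : (zSeq.{u} h).ShortExact where
  exact := by
    rw [ShortComplex.ab_exact_iff]
    intro x hx
    obtain ⟨y, hy⟩ := exists_zmul_eq h (show zred h (x : ULift.{u + 1} (ZMod n)).down = 0 from congrArg ULift.down hx)
    exact ⟨(ULift.up y : ULift.{u + 1} (ZMod a)), ULift.ext _ _ hy⟩
  mono_f := (AddCommGrpCat.mono_iff_injective _).2 fun x y hxy =>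
    ULift.ext _ _ (zmul_injective h (congrArg ULift.down hxy))
  epi_g := (AddCommGrpCat.epi_iff_surjective _).2 fun y => by
    obtain ⟨z, hz⟩ := ZMod.intCast_surjective (y : ULift.{u + 1} (ZMod b)).down
    exact ⟨(ULift.up (z : ZMod n) : ULift.{u + 1} (ZMod n)), ULift.ext _ _ ((zred_coe h z).trans hz)⟩

variable {X : Scheme.{u}}

/-- Constant sheaves on the étale site are exact in the group. -/
theorem constSheaf_shortExact {S : ShortComplex AddCommGrpCat.{u + 1}} (hS : S.ShortExact) :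
    ∃ (_ : (constantSheaf X.smallEtaleTopology AddCommGrpCat.{u + 1}).PreservesZeroMorphisms),
      (S.map (constantSheaf X.smallEtaleTopology AddCommGrpCat.{u + 1})).ShortExact := by
  let F := constantSheaf X.smallEtaleTopology AddCommGrpCat.{u + 1}
  haveI : (EtCore.gsec X).Additive := ⟨fun {_ _ _ _} => rfl⟩
  haveI : F.Additive := (EtCore.constAdj X).left_adjoint_additive
  have : PreservesFiniteLimits F := comp_preservesFiniteLimits _ _
  have : PreservesColimitsOfSize.{0, 0} F := (EtCore.constAdj X).leftAdjoint_preservesColimits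
  have : PreservesFiniteColimits F := PreservesColimitsOfSize.preservesFiniteColimits _
  exact ⟨inferInstance, hS.map_of_exact _⟩

/-- The map of constant sheaves induced by `zmul`. -/
def cMul {a b n : ℕ} (h : a * b = n) : EtCoh.const X (ZMod a) ⟶ EtCoh.const X (ZMod n) :=
  (constantSheaf X.smallEtaleTopology AddCommGrpCat.{u + 1}).map (zSeq h).f

/-- The map of constant sheaves induced by `zred`. -/
def cRed {a b n : ℕ} (h : a * b = n) : EtCoh.const X (ZMod n) ⟶ EtCoh.const X (ZMod b) :=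
  (constantSheaf X.smallEtaleTopology AddCommGrpCat.{u + 1}).map (zSeq h).g

/-- With global sections as small as possible the first cohomology with smaller coefficients embeds. -/
theorem cMul_range {a b n : ℕ} [NeZero n] (h : a * b = n)
    (ha : Nat.card (EtCoh.H X (EtCoh.const X (ZMod a)) 0) = a)
    (hb : Nat.card (EtCoh.H X (EtCoh.const X (ZMod b)) 0) = b)
    (hn : Nat.card (EtCoh.H X (EtCoh.const X (ZMod n)) 0) = n) :
    Function.Injective (Sheaf.H.map (cMul (X := X) h) 1) ∧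
      ∀ ξ, Sheaf.H.map (cRed (X := X) h) 1 ξ = 0 ↔ ∃ η, Sheaf.H.map (cMul (X := X) h) 1 η = ξ := by
  obtain ⟨_, hS⟩ := constSheaf_shortExact (X := X) (zSeq_shortExact.{u} h)
  let T := (zSeq.{u} h).map (constantSheaf X.smallEtaleTopology AddCommGrpCat.{u + 1})
  have hz : cMul (X := X) h ≫ cRed (X := X) h = 0 := T.zero
  have hcomp : ∀ i (η : EtCoh.H X (EtCoh.const X (ZMod a)) i),
      Sheaf.H.map (cRed (X := X) h) i (Sheaf.H.map (cMul (X := X) h) i η) = 0 := fun i η => by
    rw [← Sheaf.H.map_comp_apply, hz, Sheaf.H.map_apply, Ext.mk₀_zero, Ext.comp_zero]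
  let i₀ : EtCoh.H X (EtCoh.const X (ZMod a)) 0 →+ _ := Sheaf.H.map (cMul (X := X) h) 0
  let p₀ : EtCoh.H X (EtCoh.const X (ZMod n)) 0 →+ _ := Sheaf.H.map (cRed (X := X) h) 0
  haveI : Mono T.f := hS.mono_f
  have hi₀ : Function.Injective i₀ := fun x y hxy => by
    apply Ext.postcomp_mk₀_injective_of_mono _ T.f
    have h' : Sheaf.H.map (cMul (X := X) h) 0 x = Sheaf.H.map (cMul (X := X) h) 0 y := hxy
    rw [Sheaf.H.map_apply, Sheaf.H.map_apply] at h'
    exact h'
  have hex : p₀.ker = i₀.range := by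
    ext x
    refine ⟨fun hx => ?_, ?_⟩
    · obtain ⟨y, hy⟩ := Ext.covariant_sequence_exact₂ _ hS x hx
      exact ⟨y, hy⟩
    · rintro ⟨y, rfl⟩
      exact hcomp 0 y
  have hn0 := NeZero.ne n
  have ha0 : a ≠ 0 := fun h0 => hn0 (by rw [← h, h0, zero_mul])
  have hb0 : b ≠ 0 := fun h0 => hn0 (by rw [← h, h0, mul_zero])
  haveI : Finite (EtCoh.H X (EtCoh.const X (ZMod b)) 0) := Nat.finite_of_card_ne_zero (hb.trans_ne hb0)
  have hp₀ : Function.Surjective p₀ := by
    have hc : Nat.card p₀.range = b := by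
      have h1 : Nat.card (EtCoh.H X (EtCoh.const X (ZMod n)) 0) = Nat.card p₀.range * Nat.card p₀.ker := by
        rw [AddSubgroup.card_eq_card_quotient_mul_card_addSubgroup p₀.ker,
          Nat.card_congr (QuotientAddGroup.quotientKerEquivRange p₀).toEquiv]
      rw [hn, hex, ← Nat.card_congr (AddMonoidHom.ofInjective hi₀).toEquiv, ha] at h1
      exact (Nat.eq_of_mul_eq_mul_right (Nat.pos_of_ne_zero ha0) (((mul_comm b a).trans h).trans h1)).symm
    exact AddMonoidHom.range_eq_top.1 (AddSubgroup.eq_top_of_card_eq _ (hc.trans hb.symm))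
  refine ⟨(injective_iff_map_eq_zero _).2 fun η hη => ?_, fun ξ => ⟨fun hξ => ?_, ?_⟩⟩
  · obtain ⟨z, rfl⟩ := Ext.covariant_sequence_exact₁ _ hS η hη (rfl : 0 + 1 = 1)
    obtain ⟨w, rfl⟩ := hp₀ z
    show (Sheaf.H.map (cRed (X := X) h) 0 w).comp hS.extClass _ = 0
    rw [Sheaf.H.map_apply, Ext.comp_assoc_of_second_deg_zero]
    erw [hS.comp_extClass]
    rw [Ext.comp_zero]
  · obtain ⟨y, hy⟩ := Ext.covariant_sequence_exact₂ _ hS ξ hξ
    exact ⟨y, hy⟩
  · rintro ⟨y, rfl⟩
    exact hcomp 1 y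

theorem cRed_cMul {a b n : ℕ} (h : a * b = n) (h' : b * a = n) :
    cRed (X := X) h ≫ cMul (X := X) h' = a • 𝟙 (EtCoh.const X (ZMod n)) := by
  haveI : (EtCore.gsec X).Additive := ⟨fun {_ _ _ _} => rfl⟩
  haveI : (constantSheaf X.smallEtaleTopology AddCommGrpCat.{u + 1}).Additive := (EtCore.constAdj X).left_adjoint_additive
  have hg : (zSeq.{u} h).g ≫ (zSeq.{u} h').f = a • 𝟙 (AddCommGrpCat.of (ULift.{u + 1} (ZMod n))) := by
    refine AddCommGrpCat.hom_ext (AddMonoidHom.ext fun x => ULift.ext _ _ ?_)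
    exact zmul_zred h h' (x : ULift.{u + 1} (ZMod n)).down
  refine ((constantSheaf X.smallEtaleTopology AddCommGrpCat.{u + 1}).map_comp _ _).symm.trans ?_
  rw [hg, Functor.map_nsmul, CategoryTheory.Functor.map_id]

theorem map_nsmul_id {F : EtCoh.Ab X} {i : ℕ} (m : ℕ) (ξ : EtCoh.H X F i) :
    Sheaf.H.map (m • 𝟙 F) i ξ = m • ξ := by
  induction m with
  | zero => rw [zero_smul, zero_smul, Sheaf.H.map_apply, Ext.mk₀_zero, Ext.comp_zero]
  | succ m ih => rw [succ_nsmul, succ_nsmul, Sheaf.H.map_add_apply, ih, Sheaf.H.map_id_apply]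

/-- Torsion of degree one cohomology is degree one cohomology with smaller coefficients. -/
theorem card_torsion_const {d m n : ℕ} [NeZero n] (h : d * m = n)
    (hc : ∀ e, e ∣ n → Nat.card (EtCoh.H X (EtCoh.const X (ZMod e)) 0) = e) :
    Nat.card {ξ : EtCoh.H X (EtCoh.const X (ZMod n)) 1 // d • ξ = 0} =
      Nat.card (EtCoh.H X (EtCoh.const X (ZMod d)) 1) := by
  have h' : m * d = n := (mul_comm m d).trans h
  obtain ⟨hi, hker⟩ := cMul_range (X := X) h (hc d ⟨m, h.symm⟩) (hc m ⟨d, h'.symm⟩) (hc n dvd_rfl)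
  obtain ⟨hj, -⟩ := cMul_range (X := X) h' (hc m ⟨d, h'.symm⟩) (hc d ⟨m, h.symm⟩) (hc n dvd_rfl)
  refine Nat.card_congr (Equiv.trans (Equiv.subtypeEquivRight fun ξ => ?_)
    (Equiv.ofInjective _ hi).symm)
  rw [← map_nsmul_id, ← cRed_cMul h h', Sheaf.H.map_comp_apply, map_eq_zero_iff _ hj, hker]
  exact Iff.rfl

end Groth.Agent.CurveKummer
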