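import Mathlib.GroupTheory.Coset.Card
import Mathlib.GroupTheory.QuotientGroup.Basic
import Mathlib.Data.ZMod.Basic
import Mathlib.Algebra.BigOperators.Pi
import Mathlib.SetTheory.Cardinal.Finite
import Mathlib.Algebra.BigOperators.Ring.Finset
import Mathlib.Algebra.Ring.Int.Defs
import Mathlib.Data.Int.Cast.Lemmas
import Mathlib.Algebra.BigOperators.Group.Finset.Piecewise
import Mathlib.Tactic.Abel

/-!
# Counting torsion and divisible parts along a degree map
-/

set_option autoImplicit false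

namespace Groth.Agent.CurveKummer

/-- The cardinality of a source is that of the image times that of the kernel. -/
theorem card_eq_range_mul_ker {A B : Type*} [AddCommGroup A] [AddCommGroup B] (f : A →+ B) :
    Nat.card A = Nat.card f.range * Nat.card f.ker := by
  rw [AddSubgroup.card_eq_card_quotient_mul_card_addSubgroup f.ker,
    Nat.card_congr (QuotientAddGroup.quotientKerEquivRange f).toEquiv]

/-- The count for a divisor map `ω`, a class map `a` and a restriction `π`. -/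
theorem card_count {W P B S : Type*} [AddCommGroup W] [AddCommGroup P] [AddCommGroup B] [Fintype S] [Nonempty S]
    (ω : W →+ (S → ℤ)) (a : (S → ℤ) →+ P) (π : P →+ B) (δ : P →+ ℤ) (n : ℕ) [NeZero n]
    (hδ : ∀ e, δ (a e) = ∑ x, e x) (hdiv : ∀ v, (n : ℤ) ∣ δ v → ∃ w, n • w = v)
    (hω : ∀ e, a e = 0 ↔ e ∈ ω.range) (hω0 : ∀ w, ω w = 0 → ∃ w', n • w' = w)
    (hπ : Function.Surjective π) (hker : ∀ v, π v = 0 ↔ v ∈ a.range) :
    Nat.card (W ⧸ (nsmulAddMonoidHom n : W →+ W).range) * Nat.card (nsmulAddMonoidHom n : B →+ B).ker =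
      Nat.card (nsmulAddMonoidHom n : P →+ P).ker * n ^ (Fintype.card S - 1) := by
  classical
  have hn0 : (n : ℤ) ≠ 0 := Int.natCast_ne_zero.2 (NeZero.ne n)
  let φ : P × (S → ℤ) →+ P := (nsmulAddMonoidHom n).comp (AddMonoidHom.fst _ _) - a.comp (AddMonoidHom.snd _ _)
  let T := φ.ker
  have hT : ∀ v e, (v, e) ∈ T ↔ n • v = a e := fun v e => by
    rw [AddMonoidHom.mem_ker]
    exact sub_eq_zero
  let ρ : (S → ℤ) →+ T := AddMonoidHom.mk' (fun f => ⟨(a f, n • f), (hT _ _).2 (map_nsmul a n f).symm⟩)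
    fun f g => Subtype.ext (Prod.ext (map_add a f g) (nsmul_add f g n))
  let R := ρ.range
  let q := QuotientAddGroup.mk' R
  have hq0 : ∀ t : T, q t = 0 ↔ ∃ f, a f = t.1.1 ∧ n • f = t.1.2 := fun t => by
    refine (QuotientAddGroup.eq_zero_iff t).trans ⟨?_, ?_⟩
    · rintro ⟨f, rfl⟩
      exact ⟨f, rfl, rfl⟩
    · rintro ⟨f, h1, h2⟩
      exact ⟨f, Subtype.ext (Prod.ext h1 h2)⟩
  -- through the residues of the divisor
  let red : T →+ (S → ZMod n) := AddMonoidHom.mk' (fun t x => ((t.1.2 x : ℤ) : ZMod n))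
    fun s t => funext fun x => Int.cast_add _ _
  let γ : T ⧸ R →+ (S → ZMod n) := QuotientAddGroup.lift R red (by
    rintro t ⟨f, rfl⟩
    refine funext fun x => ?_
    show (((n • f) x : ℤ) : ZMod n) = 0
    rw [Pi.smul_apply, nsmul_eq_mul, Int.cast_mul]
    simp)
  let ι : (nsmulAddMonoidHom n : P →+ P).ker →+ T ⧸ R := q.comp
    (AddMonoidHom.mk' (fun v => (⟨(v.1, 0), (hT _ _).2 (v.2.trans (map_zero a).symm)⟩ : T))
      fun v w => Subtype.ext (Prod.ext rfl (add_zero 0).symm))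
  have hι : Function.Injective ι := by
    rw [injective_iff_map_eq_zero]
    intro v hv
    obtain ⟨f, h1', h2'⟩ := (hq0 _).1 hv
    have h1 : a f = v.1 := h1'
    have h2 : n • f = 0 := h2'
    have hf : f = 0 := funext fun x => by
      have h3 := congrFun h2 x
      rw [Pi.smul_apply, nsmul_eq_mul] at h3
      exact (mul_eq_zero.1 (show (n : ℤ) * f x = 0 from h3)).resolve_left hn0
    rw [hf, map_zero] at h1
    exact Subtype.ext h1.symm
  have hιr : ι.range = γ.ker := by
    ext t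
    obtain ⟨⟨⟨v, e⟩, ht⟩, rfl⟩ := QuotientAddGroup.mk'_surjective R t
    constructor
    · rintro ⟨w, hw⟩
      rw [← hw]
      exact funext fun x => Int.cast_zero
    · intro h
      have h' : ∀ x, ∃ c : ℤ, e x = n * c := fun x => (ZMod.intCast_zmod_eq_zero_iff_dvd _ _).1 (congrFun h x)
      choose f hf using h'
      have he : n • f = e := funext fun x => by rw [Pi.smul_apply, nsmul_eq_mul, hf x]
      have hmem : n • (v - a f) = 0 := by
        rw [nsmul_sub, (hT v e).1 ht, ← map_nsmul, he, sub_self]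
      refine ⟨⟨v - a f, hmem⟩, (sub_eq_zero.1 ?_).symm⟩
      · refine (map_sub q _ _).symm.trans ((hq0 _).2 ⟨f, ?_, ?_⟩)
        · show a f = v - (v - a f)
          abel
        · show n • f = e - 0
          rw [he, sub_zero]
  let sm : (S → ZMod n) →+ ZMod n := AddMonoidHom.mk' (fun c => ∑ x, c x) fun c d => Finset.sum_add_distrib
  have hγr : γ.range = sm.ker := by
    ext c
    constructor
    · rintro ⟨t, rfl⟩
      obtain ⟨⟨⟨v, e⟩, ht⟩, rfl⟩ := QuotientAddGroup.mk'_surjective R t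
      show ∑ x, ((e x : ℤ) : ZMod n) = 0
      rw [← Int.cast_sum, ← hδ e, ← (hT v e).1 ht, map_nsmul, nsmul_eq_mul, Int.cast_mul]
      simp
    · intro hc
      choose e he using fun x => ZMod.intCast_surjective (c x)
      have hd : (n : ℤ) ∣ δ (a e) := by
        rw [hδ, ← ZMod.intCast_zmod_eq_zero_iff_dvd, Int.cast_sum]
        simp only [he]
        exact hc
      obtain ⟨w, hw⟩ := hdiv _ hd
      exact ⟨q ⟨(w, e), (hT _ _).2 hw⟩, funext he⟩
  have hcard : Nat.card γ.range = n ^ (Fintype.card S - 1) := by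
    have hs : Function.Surjective sm := fun c => by
      obtain ⟨x⟩ := ‹Nonempty S›
      exact ⟨Pi.single x c, Fintype.sum_pi_single' x c⟩
    have h := card_eq_range_mul_ker sm
    rw [Nat.card_fun, Nat.card_zmod, Nat.card_eq_fintype_card (α := S),
      Nat.card_congr (Equiv.subtypeUnivEquiv fun c => AddMonoidHom.mem_range.2 (hs c)), Nat.card_zmod] at h
    rw [hγr]
    obtain ⟨m, hm⟩ := Nat.exists_eq_succ_of_ne_zero (Fintype.card_ne_zero (α := S))
    rw [hm, pow_succ', mul_right_inj' (NeZero.ne n)] at h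
    rw [hm, Nat.succ_sub_one]
    exact h.symm
  have h1 : Nat.card (T ⧸ R) = Nat.card (nsmulAddMonoidHom n : P →+ P).ker * n ^ (Fintype.card S - 1) := by
    rw [card_eq_range_mul_ker γ, hcard, ← hιr, ← Nat.card_congr (AddMonoidHom.ofInjective hι).toEquiv, mul_comm]
  -- through the restriction
  let η : T ⧸ R →+ B := QuotientAddGroup.lift R (π.comp ((AddMonoidHom.fst _ _).comp T.subtype)) (by
    rintro t ⟨f, rfl⟩
    exact (hker _).2 ⟨f, rfl⟩)
  have hηr : η.range = (nsmulAddMonoidHom n : B →+ B).ker := by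
    ext b
    constructor
    · rintro ⟨t, rfl⟩
      obtain ⟨⟨⟨v, e⟩, ht⟩, rfl⟩ := QuotientAddGroup.mk'_surjective R t
      show n • π v = 0
      rw [← map_nsmul]
      exact (hker _).2 ⟨e, ((hT v e).1 ht).symm⟩
    · intro hb
      obtain ⟨v, rfl⟩ := hπ b
      obtain ⟨e, he⟩ := (hker (n • v)).1 (by rw [map_nsmul]; exact hb)
      exact ⟨q ⟨(v, e), (hT _ _).2 he.symm⟩, rfl⟩
  let κ : W →+ T ⧸ R := q.comp
    (AddMonoidHom.mk' (fun w => (⟨(0, ω w), (hT _ _).2 (by rw [nsmul_zero, (hω _).2 ⟨w, rfl⟩])⟩ : T))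
      fun v w => Subtype.ext (Prod.ext (add_zero 0).symm (map_add ω v w)))
  have hκk : κ.ker = (nsmulAddMonoidHom n : W →+ W).range := by
    ext w
    constructor
    · intro hw
      obtain ⟨f, h1, h2⟩ := (hq0 _).1 hw
      obtain ⟨y, rfl⟩ := (hω f).1 h1
      obtain ⟨z, hz⟩ := hω0 (w - n • y) (by
        rw [map_sub, map_nsmul]
        exact sub_eq_zero.2 h2.symm)
      exact ⟨z + y, by rw [nsmulAddMonoidHom_apply, nsmul_add, hz, sub_add_cancel]⟩
    · rintro ⟨y, rfl⟩
      exact (hq0 _).2 ⟨ω y, (hω _).2 ⟨y, rfl⟩, (map_nsmul ω n y).symm⟩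
  have hκr : κ.range = η.ker := by
    ext t
    constructor
    · rintro ⟨w, rfl⟩
      exact map_zero π
    · intro ht
      obtain ⟨⟨⟨v, e⟩, hve⟩, rfl⟩ := QuotientAddGroup.mk'_surjective R t
      obtain ⟨f, hf⟩ := (hker v).1 ht
      obtain ⟨w, hw⟩ := (hω (e - n • f)).1 (by
        rw [map_sub, map_nsmul, hf, ← (hT v e).1 hve, sub_self])
      refine ⟨w, (sub_eq_zero.1 ?_).symm⟩
      refine (map_sub q _ _).symm.trans ((hq0 _).2 ⟨f, ?_, ?_⟩)
      · show a f = v - 0
        rw [hf, sub_zero]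
      · show n • f = e - ω w
        rw [hw]; abel
  have h2 : Nat.card (W ⧸ (nsmulAddMonoidHom n : W →+ W).range) = Nat.card η.ker := by
    rw [← hκk, ← hκr]
    exact Nat.card_congr (QuotientAddGroup.quotientKerEquivRange κ).toEquiv
  rw [← h1, card_eq_range_mul_ker η, hηr, h2, mul_comm]

end Groth.Agent.CurveKummer
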