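import Groth.Agent.PicTors.Kummer
import Groth.Agent.JacVarLib.Open
import Groth.Agent.PicRep.Functor
import Mathlib.RingTheory.RootsOfUnity.Basic

/-!
# The Kummer sequence in degrees zero and two
-/

set_option autoImplicit false
set_option maxHeartbeats 1600000
set_option linter.style.haveILetI false
set_option backward.isDefEq.respectTransparency false
set_option backward.isDefEq.respectTransparency.types false

universe u

open CategoryTheory CategoryTheory.Limits AlgebraicGeometry Opposite CategoryTheory.Abelian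

noncomputable section

namespace Groth.Agent.CurveKummer

open Groth.Agent Groth.Agent.H23 Groth.Agent.H23.PicMul
open Groth.Agent.JacVarLib (Pc ext_val)
open scoped Groth.Agent.H23.PicMul

section Pic

variable (X : Scheme.{u}) [PicGrp.Law X]

/-- The two descriptions of the Picard group. -/
def pcEquiv : PicLoc.PicSet X ≃* Pc X where
  toFun c := PicRep.toPc c.1 c.2
  invFun v := ⟨v.1.val, v.2⟩
  left_inv c := Subtype.ext (PicRep.toPc_val c.1 c.2)
  right_inv v := ext_val (PicRep.toPc_val _ _)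
  map_mul' a b := ext_val (by
    rw [PicRep.toPc_val, PicGrp.Law.mul_val]
    show a.1 * b.1 = (PicRep.toPc a.1 a.2).1.val * (PicRep.toPc b.1 b.2).1.val
    rw [PicRep.toPc_val, PicRep.toPc_val])

end Pic

/-- Invertible classes and degree one cohomology of the multiplicative group. -/
theorem nonempty_pc_equiv_h1 (X : Scheme.{u}) :
    Nonempty (Additive (Pc X) ≃+ EtCoh.H X (EtCoh.Gm X) 1) := by
  letI := PicMul.law X
  obtain ⟨P⟩ := GmPic.nonempty_pic_addEquiv_H1 X
  exact ⟨(MulEquiv.toAdditive (pcEquiv X).symm).trans P⟩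

variable {X : Scheme.{u}} {n : ℕ} [NeZero n]

section Sequence

variable {S : ShortComplex (EtCoh.Ab X)} (hS : S.ShortExact)

theorem map_f_map_g {i : ℕ} (y : EtCoh.H X S.X₁ i) : Sheaf.H.map S.g i (Sheaf.H.map S.f i y) = 0 := by
  rw [← Sheaf.H.map_comp_apply, S.zero, Sheaf.H.map_apply, Ext.mk₀_zero, Ext.comp_zero]

include hS in
theorem delta_map_g {q : ℕ} (z : EtCoh.H X S.X₂ q) :
    (Sheaf.H.map S.g q z).comp hS.extClass (rfl : q + 1 = q + 1) = 0 := by
  rw [Sheaf.H.map_apply, Ext.comp_assoc_of_second_deg_zero, hS.comp_extClass, Ext.comp_zero]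

include hS in
theorem exists_map_g_of_delta {q : ℕ} {z : EtCoh.H X S.X₃ q}
    (hz : z.comp hS.extClass (rfl : q + 1 = q + 1) = 0) : ∃ b, Sheaf.H.map S.g q b = z := by
  obtain ⟨b, hb⟩ := Ext.covariant_sequence_exact₃ _ hS z (rfl : q + 1 = q + 1) hz
  exact ⟨b, (Sheaf.H.map_apply _ _).trans hb⟩

include hS in
theorem exists_map_f_of_map_g {i : ℕ} {z : EtCoh.H X S.X₂ i} (hz : Sheaf.H.map S.g i z = 0) :
    ∃ y, Sheaf.H.map S.f i y = z := by
  rw [Sheaf.H.map_apply] at hz
  obtain ⟨y, hy⟩ := Ext.covariant_sequence_exact₂ _ hS z hz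
  exact ⟨y, (Sheaf.H.map_apply _ _).trans hy⟩

include hS in
theorem exists_delta_of_map_f {q : ℕ} {x : EtCoh.H X S.X₁ (q + 1)} (hx : Sheaf.H.map S.f (q + 1) x = 0) :
    ∃ z : EtCoh.H X S.X₃ q, z.comp hS.extClass (rfl : q + 1 = q + 1) = x := by
  rw [Sheaf.H.map_apply] at hx
  exact Ext.covariant_sequence_exact₁ _ hS x hx (rfl : q + 1 = q + 1)

include hS in
theorem map_f_delta {q : ℕ} (z : EtCoh.H X S.X₃ q) :
    Sheaf.H.map S.f (q + 1) (z.comp hS.extClass (rfl : q + 1 = q + 1)) = 0 := by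
  rw [Sheaf.H.map_apply, Ext.comp_assoc_of_third_deg_zero, hS.extClass_comp, Ext.comp_zero]

include hS in
theorem map_f_injective_zero : Function.Injective (Sheaf.H.map S.f 0) := fun a b hab => by
  rw [Sheaf.H.map_apply, Sheaf.H.map_apply] at hab
  haveI := hS.mono_f
  exact Ext.postcomp_mk₀_injective_of_mono _ S.f hab

end Sequence

theorem muι_powMap_H {i : ℕ} (y : EtCoh.H X (EtCoh.mu X n) i) :
    Sheaf.H.map (EtCoh.powMap X n) i (Sheaf.H.map (EtCoh.muι X n) i y) = 0 :=
  map_f_map_g (S := EtSix.kummerSC X n) y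

/-- The boundary kills multiples. -/
theorem boundary_nsmul (h : Epi (EtCoh.powMap X n)) {q : ℕ} (z : EtCoh.H X (EtCoh.Gm X) q) :
    EtSix.kummerBoundary h q (n • z) = 0 :=
  (congrArg (EtSix.kummerBoundary h q) (PicTors.map_powMap (n := n) z).symm).trans
    (delta_map_g (EtSix.kummerShortExact h) z)

theorem exists_nsmul_of_boundary_eq_zero (h : Epi (EtCoh.powMap X n)) {q : ℕ} {z : EtCoh.H X (EtCoh.Gm X) q}
    (hz : EtSix.kummerBoundary h q z = 0) : ∃ b : EtCoh.H X (EtCoh.Gm X) q, n • b = z := by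
  obtain ⟨b, hb⟩ := exists_map_g_of_delta (EtSix.kummerShortExact h) hz
  exact ⟨b, (PicTors.map_powMap (n := n) b).symm.trans hb⟩

theorem boundary_surjective (h : Epi (EtCoh.powMap X n)) {q : ℕ}
    (hv : Subsingleton (EtCoh.H X (EtCoh.Gm X) (q + 1))) : Function.Surjective (EtSix.kummerBoundary h q) := fun x =>
  exists_delta_of_map_f (EtSix.kummerShortExact h) (@Subsingleton.elim _ hv _ _)

theorem muι_boundary (h : Epi (EtCoh.powMap X n)) {q : ℕ} (z : EtCoh.H X (EtCoh.Gm X) q) :
    Sheaf.H.map (EtCoh.muι X n) (q + 1) (EtSix.kummerBoundary h q z) = 0 :=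
  map_f_delta (EtSix.kummerShortExact h) z

theorem exists_boundary_of_muι (h : Epi (EtCoh.powMap X n)) {q : ℕ} {x : EtCoh.H X (EtCoh.mu X n) (q + 1)}
    (hx : Sheaf.H.map (EtCoh.muι X n) (q + 1) x = 0) : ∃ z, EtSix.kummerBoundary h q z = x :=
  exists_delta_of_map_f (EtSix.kummerShortExact h) hx

theorem exists_muι_of_nsmul (h : Epi (EtCoh.powMap X n)) {i : ℕ} {z : EtCoh.H X (EtCoh.Gm X) i}
    (hz : n • z = 0) : ∃ y, Sheaf.H.map (EtCoh.muι X n) i y = z :=
  exists_map_f_of_map_g (EtSix.kummerShortExact h) ((PicTors.map_powMap (n := n) z).trans hz)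

theorem muι_injective_zero (h : Epi (EtCoh.powMap X n)) :
    Function.Injective (Sheaf.H.map (EtCoh.muι X n) 0) :=
  map_f_injective_zero (S := EtSix.kummerSC X n) (EtSix.kummerShortExact h)

/-- Vanishing in positive degree. -/
theorem subsingleton_H_mu (h : Epi (EtCoh.powMap X n)) {q : ℕ}
    (hd : ∀ z : EtCoh.H X (EtCoh.Gm X) q, ∃ b, n • b = z)
    (hv : Subsingleton (EtCoh.H X (EtCoh.Gm X) (q + 1))) : Subsingleton (EtCoh.H X (EtCoh.mu X n) (q + 1)) := by
  refine subsingleton_of_forall_eq 0 fun x => ?_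
  obtain ⟨z, rfl⟩ := boundary_surjective h hv x
  obtain ⟨b, rfl⟩ := hd z
  exact boundary_nsmul h b

/-- Degree two with finite coefficients, from a surjection of degree one with kernel the multiples. -/
theorem nonempty_h2_equiv (h : Epi (EtCoh.powMap X n)) (hv : Subsingleton (EtCoh.H X (EtCoh.Gm X) 2))
    {A : Type*} [AddCommGroup A] (d : EtCoh.H X (EtCoh.Gm X) 1 →+ A) (hd : Function.Surjective d)
    (hker : ∀ z, d z = 0 ↔ ∃ b, n • b = z) : Nonempty (EtCoh.H X (EtCoh.mu X n) 2 ≃+ A) := by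
  let s := EtSix.kummerBoundary h 1
  have hs : Function.Surjective s := boundary_surjective h hv
  have hk : s.ker = d.ker := AddSubgroup.ext fun z => by
    rw [AddMonoidHom.mem_ker, AddMonoidHom.mem_ker, hker]
    exact ⟨exists_nsmul_of_boundary_eq_zero h, by rintro ⟨b, rfl⟩; exact boundary_nsmul h b⟩
  exact ⟨((QuotientAddGroup.quotientKerEquivOfSurjective s hs).symm.trans
    (QuotientAddGroup.quotientAddEquivOfEq hk)).trans (QuotientAddGroup.quotientKerEquivOfSurjective d hd)⟩

/-- Global units as units of the ring of global functions. -/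
def topUnitsEquiv (X : Scheme.{u}) : PicTors.topUnits X ≃+ Additive Γ(X, ⊤)ˣ where
  toFun a := (a : ULift.{u + 1} (Additive Γ((EtCoh.top X).left, ⊤)ˣ)).down
  invFun a := (ULift.up a : ULift.{u + 1} (Additive Γ((EtCoh.top X).left, ⊤)ˣ))
  left_inv _ := rfl
  right_inv _ := rfl
  map_add' _ _ := rfl

/-- Degree zero with finite coefficients is the group of roots of unity among global functions. -/
theorem nonempty_h0_equiv (h : Epi (EtCoh.powMap X n)) :
    Nonempty (EtCoh.H X (EtCoh.mu X n) 0 ≃+ Additive ↥(rootsOfUnity n Γ(X, ⊤))) := by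
  let ι : EtCoh.H X (EtCoh.mu X n) 0 →+ EtCoh.H X (EtCoh.Gm X) 0 := Sheaf.H.map (EtCoh.muι X n) 0
  have hinj : Function.Injective ι := muι_injective_zero h
  let E : EtCoh.H X (EtCoh.Gm X) 0 ≃+ Additive Γ(X, ⊤)ˣ :=
    (Sheaf.H.equiv₀ (EtCoh.Gm X) (EtCore.topIsTerminal X)).trans (topUnitsEquiv X)
  let ψ : EtCoh.H X (EtCoh.mu X n) 0 →+ Additive Γ(X, ⊤)ˣ := E.toAddMonoidHom.comp ι
  have hψ : Function.Injective ψ := E.injective.comp hinj
  have hmem : ∀ a, a ∈ ψ.range ↔ a ∈ Subgroup.toAddSubgroup (rootsOfUnity n Γ(X, ⊤)) := by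
    intro a
    obtain ⟨z, rfl⟩ := E.surjective a
    have hiff : E z ∈ Subgroup.toAddSubgroup (rootsOfUnity n Γ(X, ⊤)) ↔ n • z = 0 := by
      rw [← map_eq_zero_iff E E.injective, map_nsmul]
      exact (mem_rootsOfUnity n (Additive.toMul (E z))).trans
        ⟨fun h1 => congrArg Additive.ofMul h1, fun h1 => congrArg Additive.toMul h1⟩
    rw [hiff]
    constructor
    · rintro ⟨y, hy⟩
      rw [← E.injective hy]
      exact (PicTors.map_powMap (n := n) _).symm.trans (muι_powMap_H y)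
    · intro hz
      obtain ⟨y, hy⟩ := exists_muι_of_nsmul h hz
      exact ⟨y, congrArg E hy⟩
  exact ⟨((AddMonoidHom.ofInjective hψ).trans (AddEquiv.addSubgroupCongr (AddSubgroup.ext hmem))).trans
    { toFun := fun a => Additive.ofMul ⟨Additive.toMul a.1, a.2⟩
      invFun := fun a => ⟨Additive.ofMul (Additive.toMul a).1, (Additive.toMul a).2⟩
      left_inv := fun _ => rfl
      right_inv := fun _ => rfl
      map_add' := fun _ _ => rfl }⟩

end Groth.Agent.CurveKummer
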