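import Groth.Agent.CurveKummer.Pic
import Groth.Agent.CurveKummer.Kummer
import Groth.Agent.GmSeq.CurveVanish
import Groth.Agent.VarDim.Top
import Groth.Agent.PicRep.Pts
import Mathlib.FieldTheory.IsAlgClosed.Basic
import Mathlib.RingTheory.RootsOfUnity.AlgebraicallyClosed

/-!
# Finite coefficients on smooth curves over an algebraically closed field
-/

set_option autoImplicit false
set_option maxHeartbeats 1600000
set_option linter.style.haveILetI false
set_option linter.unusedSectionVars false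
set_option backward.isDefEq.respectTransparency false
set_option backward.isDefEq.respectTransparency.types false

universe u

open CategoryTheory CategoryTheory.Limits AlgebraicGeometry TopologicalSpace

noncomputable section

namespace Groth.Agent.CurveKummer

open Groth.Agent
open Groth.Agent.JacVarLib (Pc Pt dg O)

/-- The constants among global functions. -/
abbrev constants (k : Type u) [Field k] {Y : Scheme.{u}} (f : Y ⟶ Spec (CommRingCat.of k)) : k →+* Γ(Y, ⊤) :=
  f.appTop.hom.comp (Scheme.ΓSpecIso (CommRingCat.of k)).inv.hom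

theorem isUnit_cast {k : Type u} [Field k] {Y : Scheme.{u}} (f : Y ⟶ Spec (CommRingCat.of k)) {n : ℕ}
    (hn : (n : k) ≠ 0) : IsUnit (n : Γ(Y, ⊤)) := by
  have := (isUnit_iff_ne_zero.2 hn).map (constants k f)
  rwa [map_natCast] at this

variable (k : Type u) [Field k] [IsAlgClosed k]

theorem exists_cyclotomic {Y : Scheme.{u}} (f : Y ⟶ Spec (CommRingCat.of k)) {n : ℕ} [NeZero n]
    (hn : (n : k) ≠ 0) : ∃ ζ : Γ(Y, ⊤), Polynomial.aeval ζ (Polynomial.cyclotomic n ℤ) = 0 := by
  haveI : NeZero (n : k) := ⟨hn⟩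
  obtain ⟨ζ, hζ⟩ := HasEnoughRootsOfUnity.exists_primitiveRoot k n
  refine ⟨constants k f ζ, ?_⟩
  have h := hζ.isRoot_cyclotomic (NeZero.pos n)
  rw [Polynomial.IsRoot.def, ← Polynomial.map_cyclotomic n (algebraMap ℤ k), Polynomial.eval_map_algebraMap] at h
  have := Polynomial.aeval_algHom_apply (constants k f).toIntAlgHom ζ (Polynomial.cyclotomic n ℤ)
  exact this.trans (by rw [h, map_zero])

/-- Roots of unity of a domain containing an algebraically closed field. -/
theorem nonempty_rootsOfUnity_equiv {R : Type u} [CommRing R] [IsDomain R] (φ : k →+* R) (n : ℕ) [NeZero n]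
    (hn : (n : k) ≠ 0) : Nonempty (↥(rootsOfUnity n R) ≃* ↥(rootsOfUnity n k)) := by
  haveI : NeZero (n : k) := ⟨hn⟩
  obtain ⟨ζ, hζ⟩ := HasEnoughRootsOfUnity.exists_primitiveRoot k n
  have hinj : Function.Injective (restrictRootsOfUnity φ n) := fun a b h =>
    Subtype.ext (Units.ext (φ.injective (congrArg (fun x : ↥(rootsOfUnity n R) => (x.1 : R)) h)))
  refine ⟨(MulEquiv.ofBijective (restrictRootsOfUnity φ n) ⟨hinj, fun x => ?_⟩).symm⟩
  obtain ⟨i, -, hi⟩ := (hζ.map_of_injective φ.injective).eq_pow_of_pow_eq_one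
    (show (x.1 : R) ^ n = 1 by rw [← Units.val_pow_eq_pow_val, x.2, Units.val_one])
  refine ⟨hζ.toRootsOfUnity ^ i, Subtype.ext (Units.ext ?_)⟩
  simp only [map_pow]
  rw [SubmonoidClass.coe_pow, Units.val_pow_eq_pow_val, restrictRootsOfUnity_coe_apply]
  exact hi

section Curve

variable {X : Scheme.{u}} [X.Over (Spec (CommRingCat.of k))] [IsIntegral X]
  [IsProper (X ↘ Spec (CommRingCat.of k))] [Smooth (X ↘ Spec (CommRingCat.of k))]
  (hdim : topologicalKrullDim X = 1)

include hdim in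
/-- Degree two with finite coefficients of a smooth proper curve. -/
theorem nonempty_h2 {n : ℕ} [NeZero n] (hn : (n : k) ≠ 0) :
    Nonempty (EtCoh.H X (EtCoh.const X (ZMod n)) 2 ≃+ ZMod n) := by
  have hu := isUnit_cast (X ↘ Spec (CommRingCat.of k)) hn
  obtain ⟨ζ, hζ⟩ := exists_cyclotomic k (X ↘ Spec (CommRingCat.of k)) hn
  haveI := EtLC12.MuConst.isIso_constToMu hu ζ hζ
  obtain ⟨P⟩ := nonempty_pc_equiv_h1 X
  let D : EtCoh.H X (EtCoh.Gm X) 1 →+ ℤ := AddMonoidHom.mk' (fun z => dg k (P.symm z).toMul) fun a b => by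
    rw [map_add, toMul_add, JacVarLib.dg_mul k hdim]
  let d : EtCoh.H X (EtCoh.Gm X) 1 →+ ZMod n := (Int.castAddHom (ZMod n)).comp D
  have hd : Function.Surjective d := fun a => by
    obtain ⟨x, -⟩ := JacVarLib.exists_pt_mem k (U := (Set.univ : Set X)) isOpen_univ ⟨genericPoint X, trivial⟩
    obtain ⟨m, rfl⟩ := ZMod.intCast_surjective a
    refine ⟨P (Additive.ofMul (O k hdim x ^ m)), ?_⟩
    show ((dg k (P.symm (P (Additive.ofMul (O k hdim x ^ m)))).toMul : ℤ) : ZMod n) = _
    rw [AddEquiv.symm_apply_apply, toMul_ofMul, dg_O_zpow k hdim]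
  have hker : ∀ z, d z = 0 ↔ ∃ b, n • b = z := by
    intro z
    show ((dg k (P.symm z).toMul : ℤ) : ZMod n) = 0 ↔ _
    rw [ZMod.intCast_zmod_eq_zero_iff_dvd, ← exists_pow_eq_iff k hdim n (NeZero.pos n)]
    constructor
    · rintro ⟨w, hw⟩
      refine ⟨P (Additive.ofMul w), ?_⟩
      rw [← map_nsmul, ← ofMul_pow, hw, ofMul_toMul, AddEquiv.apply_symm_apply]
    · rintro ⟨b, rfl⟩
      exact ⟨(P.symm b).toMul, by rw [map_nsmul, toMul_nsmul]⟩
  obtain ⟨e⟩ := nonempty_h2_equiv (S0108.result X n hu)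
    (GmSeq.subsingleton_H_Gm_curve k X (X ↘ Spec (CommRingCat.of k)) hdim 2 le_rfl) d hd hker
  exact ⟨(PicTors.hIso (asIso (EtLC12.MuConst.constToMu ζ hζ)) 2).trans e⟩

include k in
theorem topologicalKrullDim_open (U : X.Opens) [Nonempty U] :
    topologicalKrullDim (U : Scheme.{u}) = topologicalKrullDim X := by
  rw [VarDim.topologicalKrullDim_eq_deg_genericPoint (X ↘ Spec (CommRingCat.of k)),
    VarDim.topologicalKrullDim_eq_deg_genericPoint (U.ι ≫ X ↘ Spec (CommRingCat.of k)),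
    VarDim.deg_comp (X ↘ Spec (CommRingCat.of k)) U.ι, genericPoint_eq_of_isOpenImmersion]

include k hdim in
theorem nonempty_of_finite_compl (U : X.Opens) (hU : ((U : Set X)ᶜ).Finite) : (U : Set X).Nonempty := by
  by_contra h
  rw [Set.not_nonempty_iff_eq_empty.1 h, Set.compl_empty] at hU
  exact PicRep.infinite_closedPoints X (X ↘ Spec (CommRingCat.of k)) hdim (hU.subset (Set.subset_univ _))

include hdim in
/-- Finite coefficients on a proper open part of a curve. -/
theorem open_mu (U : X.Opens) (hne : (U : Set X).Nonempty) (y : X) (hy : y ∉ U) {n : ℕ} [NeZero n]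
    (hn : (n : k) ≠ 0) :
    Nonempty (EtCoh.H (U : Scheme.{u}) (EtCoh.mu (U : Scheme.{u}) n) 0 ≃+ Additive ↥(rootsOfUnity n k)) ∧
      ∀ q : ℕ, 2 ≤ q → Subsingleton (EtCoh.H (U : Scheme.{u}) (EtCoh.mu (U : Scheme.{u}) n) q) := by
  haveI := CurveCohLib.isNoetherian_of_proper (k := k) (X := X)
  haveI : Nonempty U := hne.to_subtype
  haveI : Nonempty (⊤ : (U : Scheme.{u}).Opens) := ⟨⟨⟨hne.some, hne.some_mem⟩, trivial⟩⟩
  let g := U.ι ≫ X ↘ Spec (CommRingCat.of k)
  have hdU : topologicalKrullDim (U : Scheme.{u}) = 1 := (topologicalKrullDim_open k U).trans hdim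
  have hep : Epi (EtCoh.powMap (U : Scheme.{u}) n) := S0108.result _ n (isUnit_cast g hn)
  refine ⟨?_, fun q hq => ?_⟩
  · obtain ⟨e⟩ := nonempty_h0_equiv hep
    obtain ⟨e'⟩ := nonempty_rootsOfUnity_equiv k (constants k g) n hn
    exact ⟨e.trans (MulEquiv.toAdditive e')⟩
  · obtain ⟨m, rfl⟩ := Nat.exists_eq_add_of_le hq
    rw [add_comm 2 m]
    have hv : ∀ i, 2 ≤ i → Subsingleton (EtCoh.H (U : Scheme.{u}) (EtCoh.Gm (U : Scheme.{u})) i) :=
      fun i hi => GmSeq.subsingleton_H_Gm_curve k _ g hdU i hi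
    refine subsingleton_H_mu (q := m + 1) hep (fun z => ?_) (hv _ (by omega))
    rcases Nat.eq_zero_or_pos m with rfl | hm
    · obtain ⟨P⟩ := nonempty_pc_equiv_h1 (U : Scheme.{u})
      obtain ⟨w, hw⟩ := exists_pow_eq_open k hdim U hne y hy (P.symm z).toMul n (NeZero.pos n)
      refine ⟨P (Additive.ofMul w), ?_⟩
      rw [← map_nsmul, ← ofMul_pow, hw, ofMul_toMul, AddEquiv.apply_symm_apply]
    · haveI := hv (m + 1) (by omega)
      exact ⟨0, Subsingleton.elim _ _⟩

end Curve

end Groth.Agent.CurveKummer
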