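import Groth.Agent.CurveKummer.Pic
import Groth.Agent.CurveFF.Degree
import Groth.Agent.CurveBC.Geometry

/-!
# Classes and units on an open part of a curve through divisors on its complement
-/

set_option autoImplicit false
set_option maxHeartbeats 1600000
set_option linter.style.haveILetI false
set_option linter.unusedSectionVars false
set_option backward.isDefEq.respectTransparency false
set_option backward.isDefEq.respectTransparency.types false

universe u

open CategoryTheory CategoryTheory.Limits AlgebraicGeometry TopologicalSpace Opposite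
open Groth.Agent.AModX (res resR)
open Groth.Agent.CurveCohLib.Polar (eta_mem InR)

noncomputable section

namespace Groth.Agent.CurveKummer

open Groth.Agent Groth.Agent.H23 Groth.Agent.H23.PicMul
open Groth.Agent.JacVarLib (Pc Pt pullPc pullPc_val pullPc_comp ext_val out cl_out isInvertible_out dg hz O)
open scoped Groth.Agent.H23.PicMul

attribute [local instance] CurveFF.ffAlg

/-- An isomorphism with the structure module on an open gives a frame there. -/
theorem exists_frame_of_iso {X : Scheme.{u}} {L : X.Modules} {U : X.Opens}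
    (φ : L.restrict U.ι ≅ Coh.structureModule U.toScheme) : ∃ e : Γ(L, U), InvX.IsFrame e := by
  let e' : Γ(L.restrict U.ι, ⊤) := φ.inv.app ⊤ (1 : Γ(U.toScheme, ⊤))
  refine ⟨res L (le_of_eq U.ι_image_top.symm) (show Γ(L, U.ι ''ᵁ ⊤) from e'), fun V hV => ?_⟩
  obtain ⟨V', rfl⟩ : ∃ V', U.ι ''ᵁ V' = V := ⟨U.ι ⁻¹ᵁ V, by
    rw [Scheme.Hom.image_preimage_eq_opensRange_inf, Scheme.Opens.opensRange_ι]
    exact inf_eq_right.mpr hV⟩
  have hb : Function.Bijective (φ.inv.app V') :=
    (ConcreteCategory.isIso_iff_bijective _).1 (Scheme.Modules.Hom.isIso_iff_isIso_app.1 inferInstance V')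
  have key : ∀ r : Γ(X, U.ι ''ᵁ V'), (show Γ(L.restrict U.ι, V') from
      r • res L (hV : U.ι ''ᵁ V' ≤ U) (res L (le_of_eq U.ι_image_top.symm)
        (show Γ(L, U.ι ''ᵁ ⊤) from e'))) = φ.inv.app V' ((U.ι.appIso V').hom r) := by
    intro r
    have h1 : φ.inv.app V' (1 : Γ(U.toScheme, V')) = res (L.restrict U.ι) le_top e' := by
      rw [← AModX.app_res]
      exact congrArg (φ.inv.app V') (map_one (resR (le_top : V' ≤ ⊤))).symm
    conv_rhs => rw [show (U.ι.appIso V').hom r = (U.ι.appIso V').hom r • (1 : Γ(U.toScheme, V')) from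
      (mul_one _).symm]
    erw [Scheme.Modules.Hom.app_smul, h1]
    rw [AModX.res_res]
    show r • res L (U.ι.image_mono (le_top : V' ≤ ⊤)) (show Γ(L, U.ι ''ᵁ ⊤) from e') = (U.ι.appIso V').inv.hom ((U.ι.appIso V').hom r) •
      res L (U.ι.image_mono (le_top : V' ≤ ⊤)) (show Γ(L, U.ι ''ᵁ ⊤) from e')
    rw [Iso.hom_inv_id_apply]
  have he2 : (fun r : Γ(X, U.ι ''ᵁ V') => (show Γ(L.restrict U.ι, V') from
      r • res L (hV : U.ι ''ᵁ V' ≤ U) (res L (le_of_eq U.ι_image_top.symm)
        (show Γ(L, U.ι ''ᵁ ⊤) from e')))) = (φ.inv.app V') ∘ (U.ι.appIso V').hom := funext key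
  have hiso : Function.Bijective (U.ι.appIso V').hom :=
    (ConcreteCategory.isIso_iff_bijective _).1 inferInstance
  exact (congrArg Function.Bijective he2).mpr (hb.comp hiso)

/-- A class trivial on an open has a frame there. -/
theorem exists_frame_of_pullPc {X : Scheme.{u}} {U : X.Opens} {v : Pc X} (h : pullPc U.ι v = 1) :
    ∃ e : Γ(out v, U), InvX.IsFrame e := by
  obtain ⟨φ⟩ : Nonempty ((Scheme.Modules.pullback U.ι).obj (out v) ≅ Coh.structureModule U.toScheme) :=
    cl_eq_iff.1 (by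
      rw [show PicF.cl ((Scheme.Modules.pullback U.ι).obj (out v)) = PicF.pullCl U.ι (PicF.cl (out v)) from rfl,
        cl_out, ← pullPc_val, h]
      rfl)
  exact exists_frame_of_iso ((Scheme.Modules.restrictFunctorIsoPullback U.ι).app (out v) ≪≫ φ)

variable (k : Type u) [Field k] [IsAlgClosed k] {X : Scheme.{u}} [X.Over (Spec (CommRingCat.of k))]
  [IsIntegral X] [IsProper (X ↘ Spec (CommRingCat.of k))] [Smooth (X ↘ Spec (CommRingCat.of k))]
  (hdim : topologicalKrullDim X = 1)

/-- The closed points outside an open. -/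
abbrev Bd (U : X.Opens) : Type u := {x : Pt X // x.1 ∉ U}

variable {U : X.Opens} (hη : genericPoint X ∈ U)

include k hdim hη in
theorem finite_bd : Finite (Bd U) :=
  (CurveFF.finite_not_mem k X hdim hη).to_subtype

theorem divisor_apply {M : X.Modules} (hM : PicF.IsInvertible M) {e : Γ(M, U)} (he : InvX.IsFrame e)
    (z : Pt X) : CurveFF.divisor k hdim hM he hη (CurveFF.pl k X hdim z) = CurveFF.ordFun k hdim hM he hη z := by
  show CurveFF.ordFun k hdim hM he hη ((CurveFF.pl k X hdim).symm (CurveFF.pl k X hdim z)) = _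
  rw [Equiv.symm_apply_apply]

theorem divisor_of_mem {M : X.Modules} (hM : PicF.IsInvertible M) {e : Γ(M, U)} (he : InvX.IsFrame e)
    {z : Pt X} (hz : z.1 ∈ U) : CurveFF.divisor k hdim hM he hη (CurveFF.pl k X hdim z) = 0 :=
  (divisor_apply k hdim hη hM he z).trans (CurveFF.ordFun_eq_zero k hdim hM he hη hz)

/-- A class has a frame on the open with the given divisor on the boundary. -/
def Rel (v : Pc X) (d : Bd U → ℤ) : Prop :=
  ∃ (M : X.Modules) (hM : PicF.IsInvertible M) (e : Γ(M, U)) (he : InvX.IsFrame e),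
    PicF.cl M = v.1.val ∧ ∀ x : Bd U, CurveFF.divisor k hdim hM he hη (CurveFF.pl k X hdim x.1) = d x

variable {k hdim hη}

theorem Rel.trivial_open {v : Pc X} {d : Bd U → ℤ} (h : Rel k hdim hη v d) : pullPc U.ι v = 1 := by
  obtain ⟨M, hM, e, he, hcl, -⟩ := h
  obtain ⟨φ⟩ := InvX.nonempty_iso_of_isFrame he
  refine ext_val ?_
  rw [pullPc_val, ← hcl]
  exact cl_eq_iff.2 ⟨((Scheme.Modules.restrictFunctorIsoPullback U.ι).app M).symm ≪≫ φ⟩

theorem exists_rel {v : Pc X} (h : pullPc U.ι v = 1) : ∃ d : Bd U → ℤ, Rel k hdim hη v d := by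
  obtain ⟨e, he⟩ := exists_frame_of_pullPc h
  exact ⟨_, out v, isInvertible_out v, e, he, cl_out v, fun x => rfl⟩

theorem Rel.mul {v w : Pc X} {d d' : Bd U → ℤ} (h : Rel k hdim hη v d) (h' : Rel k hdim hη w d') :
    Rel k hdim hη (v * w) (d + d') := by
  obtain ⟨M, hM, e, he, hv, hd⟩ := h
  obtain ⟨N, hN, f, hf, hw, hd'⟩ := h'
  refine ⟨CohB1.tensorMod M N, InvX.isInvertible_tensorMod hM hN, InvX.tmul e f, InvX.isFrame_tmul he hf, ?_, fun x => ?_⟩
  · refine (cl_tensor M N).trans ?_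
    rw [hv, hw]
    rfl
  · rw [CurveFF.divisor_tensor k hdim hM he hη hN hf, Finsupp.add_apply, hd x, hd' x]
    rfl

/-- Only the trivial class has the zero divisor. -/
theorem Rel.eq_one {v : Pc X} (h : Rel k hdim hη v 0) : v = 1 := by
  obtain ⟨M, hM, e, he, hv, hd⟩ := h
  haveI := CurveCohLib.isNoetherian_of_proper (k := k) (X := X)
  have hD : CurveFF.divisor k hdim hM he hη = 0 := Finsupp.ext fun P => by
    obtain ⟨z, rfl⟩ := (CurveFF.pl k X hdim).surjective P
    by_cases hz : z.1 ∈ U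
    · rw [divisor_of_mem k hdim hη hM he hz, Finsupp.zero_apply]
    · exact hd ⟨z, hz⟩
  obtain rfl : v = JacVarLib.mk M hM := ext_val (by rw [JacVarLib.mk_val, hv])
  have hdg : dg k (JacVarLib.mk M hM) = ((0 : ℕ) : ℤ) := by
    rw [JacVarLib.dg_mk, ← CurveFF.deg_divisor k hdim hM he hη, hD, FFLib.Divisor.deg_zero]
    rfl
  have hhz : 0 < hz k (JacVarLib.mk M hM) := by
    rw [JacVarLib.hz_mk, CurveFF.finrank_h0_eq_ell k hdim hM he hη, hD,
      FFLib.ell_zero (CurveFF.isFunctionField k X hdim)]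
    exact Nat.one_pos
  obtain ⟨x, hx⟩ := JacVarLib.eff_of_hz_pos k hdim hdg hhz
  rw [hx, Fin.prod_univ_zero]

/-- The generic germ of a function on the open. -/
def gU (hη' : genericPoint X ∈ U) : Γ(X, U) →+* X.functionField := (X.presheaf.germ U (genericPoint X) hη').hom

theorem isFrame_unit (a : Γ(X, U)ˣ) :
    InvX.IsFrame (M := Coh.structureModule X) (U := U) (show Γ(Coh.structureModule X, U) from (a : Γ(X, U))) := by
  have h := (InvX.isFrame_one U).isUnit_smul a.isUnit
  have he : (a : Γ(X, U)) • (show Γ(Coh.structureModule X, U) from (1 : Γ(X, U))) =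
      (show Γ(Coh.structureModule X, U) from (a : Γ(X, U))) := mul_one (a : Γ(X, U))
  rwa [he] at h

theorem exp_divisor_structure {f : Γ(Coh.structureModule X, U)} (hf : InvX.IsFrame f)
    (hM : PicF.IsInvertible (Coh.structureModule X)) (z : Pt X) :
    WithZero.exp (CurveFF.divisor k hdim hM hf hη (CurveFF.pl k X hdim z)) =
      ((CurveFF.pl k X hdim z).1 (gU hη (show Γ(X, U) from f)))⁻¹ := by
  rw [CurveFF.exp_divisor k hdim hM hf hη (InvX.isFrame_one ⊤) (show genericPoint X ∈ (⊤ : X.Opens) from trivial)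
    (show z.1 ∈ (⊤ : X.Opens) from trivial)]
  have hne := CurveFF.ratio_ne_zero hf hη (InvX.isFrame_one ⊤) (show genericPoint X ∈ (⊤ : X.Opens) from trivial)
  have h := CurveFF.ratio_spec hf hη (show genericPoint X ∈ (⊤ : X.Opens) from trivial)
    (show Γ(Coh.structureModule X, (⊤ : X.Opens)) from (1 : Γ(X, ⊤)))
  have hfr : f = (show Γ(X, U) from f) • res (Coh.structureModule X) (le_top : U ≤ ⊤)
      (show Γ(Coh.structureModule X, (⊤ : X.Opens)) from (1 : Γ(X, ⊤))) := by
    show (show Γ(X, U) from f) = (show Γ(X, U) from f) * resR (le_top : U ≤ ⊤) 1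
    rw [map_one, mul_one]
  have hgf : CurveFF.gM hη f = X.presheaf.germ U (genericPoint X) hη (show Γ(X, U) from f) •
      CurveFF.gM (show genericPoint X ∈ (⊤ : X.Opens) from trivial)
        (show Γ(Coh.structureModule X, (⊤ : X.Opens)) from (1 : Γ(X, ⊤))) := by
    conv_lhs => rw [hfr]
    rw [CurveFF.gM_smul, CurveFF.gM_res (le_top : U ≤ ⊤) hη]
  have h1 : (show X.functionField from CurveFF.ratio hf hη (show genericPoint X ∈ (⊤ : X.Opens) from trivial)
      (show Γ(Coh.structureModule X, (⊤ : X.Opens)) from (1 : Γ(X, ⊤)))) * gU hη (show Γ(X, U) from f) = 1 := by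
    refine ((InvX.isFrame_one (X := X) ⊤).germ_bijective (show genericPoint X ∈ (⊤ : X.Opens) from trivial)).1 ?_
    refine (mul_smul _ _ _).trans ((congrArg _ hgf.symm).trans (h.trans (one_smul _ _).symm))
  rw [← map_inv₀]
  exact congrArg (CurveFF.pl k X hdim z).1 (eq_inv_of_mul_eq_one_left h1)

variable (k hdim hη) in
/-- The divisor of a unit on the boundary. -/
def dv (a : Γ(X, U)ˣ) (x : Bd U) : ℤ :=
  CurveFF.divisor k hdim InvX.isInvertible_structureModule (isFrame_unit a) hη (CurveFF.pl k X hdim x.1)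

theorem exp_dv (a : Γ(X, U)ˣ) (x : Bd U) :
    WithZero.exp (dv k hdim hη a x) = ((CurveFF.pl k X hdim x.1).1 (gU hη (a : Γ(X, U))))⁻¹ :=
  exp_divisor_structure (isFrame_unit a) InvX.isInvertible_structureModule x.1

variable (k hdim hη) in
/-- The divisor map on units. -/
def dvHom : Additive Γ(X, U)ˣ →+ (Bd U → ℤ) :=
  AddMonoidHom.mk' (fun a => dv k hdim hη a.toMul) fun a b => funext fun x => by
    refine WithZero.exp_injective ?_
    rw [Pi.add_apply, WithZero.exp_add, exp_dv, exp_dv, exp_dv, ← mul_inv, ← map_mul, ← map_mul]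
    rfl

theorem rel_one_dv (a : Γ(X, U)ˣ) : Rel k hdim hη 1 (dv k hdim hη a) :=
  ⟨_, InvX.isInvertible_structureModule, _, isFrame_unit a, rfl, fun _ => rfl⟩

theorem rel_one_zero : Rel k hdim hη 1 0 := by
  have h := rel_one_dv (k := k) (hdim := hdim) (hη := hη) (1 : Γ(X, U)ˣ)
  have h0 : dv k hdim hη (1 : Γ(X, U)ˣ) = 0 := map_zero (dvHom k hdim hη)
  rwa [h0] at h

theorem Rel.exists_unit {d : Bd U → ℤ} (h : Rel k hdim hη 1 d) : ∃ a : Γ(X, U)ˣ, dv k hdim hη a = d := by
  obtain ⟨M, hM, e, he, hv, hd⟩ := h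
  obtain ⟨φ⟩ : Nonempty (M ≅ Coh.structureModule X) := cl_eq_iff.1 hv
  have hf := InvX.IsFrame.map_iso φ he
  have hu : IsUnit (show Γ(X, U) from φ.hom.app U e) := by
    obtain ⟨r, hr⟩ := (hf U le_rfl).2 (show Γ(Coh.structureModule X, U) from (1 : Γ(X, U)))
    refine IsUnit.of_mul_eq_one (a := (show Γ(X, U) from φ.hom.app U e)) r (Eq.trans (mul_comm _ _) ?_)
    refine Eq.trans ?_ hr
    show r * (show Γ(X, U) from φ.hom.app U e) = r * (resR le_rfl (show Γ(X, U) from φ.hom.app U e))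
    rw [AModX.resR_self]
  refine ⟨hu.unit, funext fun x => ?_⟩
  rw [← hd x, ← CurveFF.divisor_iso k hdim hM he hη InvX.isInvertible_structureModule φ]
  refine WithZero.exp_injective ?_
  rw [exp_dv, exp_divisor_structure hf InvX.isInvertible_structureModule]
  rfl

theorem Rel.inv {v : Pc X} {d : Bd U → ℤ} (h : Rel k hdim hη v d) : Rel k hdim hη v⁻¹ (-d) := by
  obtain ⟨d', h'⟩ := exists_rel (k := k) (hdim := hdim) (hη := hη) (v := v⁻¹)
    (by rw [map_inv, h.trivial_open, inv_one])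
  have h1 : Rel k hdim hη 1 (d + d') := mul_inv_cancel v ▸ h.mul h'
  obtain ⟨a, ha⟩ := h1.exists_unit
  have h2 := h'.mul (rel_one_dv (k := k) (hdim := hdim) (hη := hη) a⁻¹)
  rw [mul_one] at h2
  have h3 : d' + dv k hdim hη a⁻¹ = -d := by
    have h4 : dv k hdim hη a⁻¹ = -dv k hdim hη a := map_neg (dvHom k hdim hη) (Additive.ofMul a)
    rw [h4, ha]; abel
  rwa [h3] at h2

theorem Rel.unique {v w : Pc X} {d : Bd U → ℤ} (h : Rel k hdim hη v d) (h' : Rel k hdim hη w d) : v = w := by
  have h1 := h.mul h'.inv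
  rw [add_neg_cancel] at h1
  exact mul_inv_eq_one.1 h1.eq_one

/-- The class of a boundary point has a frame with a single pole. -/
theorem rel_O [DecidableEq (Bd U)] (x : Bd U) : Rel k hdim hη (O k hdim x.1)⁻¹ (-Pi.single x 1) := by
  let W : X.Opens := ⟨({x.1.1} : Set X)ᶜ, x.1.2.isOpen_compl⟩
  have hUW : U ≤ W := fun y hy (he : y = x.1.1) => x.2 (he ▸ hy)
  have hWt : pullPc W.ι (O k hdim x.1)⁻¹ = 1 := by
    rw [map_inv, pullPc_O k hdim x.1 W (fun h => h rfl), inv_one]
  obtain ⟨e, he⟩ := exists_frame_of_pullPc hWt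
  let v := (O k hdim x.1)⁻¹
  let D := CurveFF.divisor k hdim (isInvertible_out v) he (hUW hη)
  have hD : D = Finsupp.single (CurveFF.pl k X hdim x.1) (D (CurveFF.pl k X hdim x.1)) := Finsupp.ext fun P => by
    obtain ⟨z, rfl⟩ := (CurveFF.pl k X hdim).surjective P
    by_cases hz : z = x.1
    · rw [hz, Finsupp.single_eq_same]
    · rw [Finsupp.single_eq_of_ne fun h => hz ((CurveFF.pl k X hdim).injective h)]
      exact divisor_of_mem k hdim (hUW hη) (isInvertible_out v) he (z := z) fun h => hz (Subtype.ext h)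
  have hdeg : D (CurveFF.pl k X hdim x.1) = -1 := by
    have h : D.deg = -1 := by
      rw [CurveFF.deg_divisor k hdim (isInvertible_out v) he (hUW hη)]
      show dg k v = -1
      rw [JacVarLib.dg_inv k hdim, JacVarLib.dg_O k hdim]
    rw [hD, FFLib.Divisor.deg_single] at h
    rcases Int.mul_eq_neg_one_iff_eq_one_or_neg_one.1 h with ⟨-, h2⟩ | ⟨h1, -⟩
    · omega
    · exact h1
  refine ⟨out v, isInvertible_out v, res (out v) hUW e, he.res hUW, cl_out v, fun y => ?_⟩
  rw [CurveFF.divisor_res k hdim (isInvertible_out v) he (hUW hη) hUW hη]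
  by_cases hy : y = x
  · rw [hy, Pi.neg_apply, Pi.single_eq_same]
    exact hdeg
  · rw [Pi.neg_apply, Pi.single_eq_of_ne hy, neg_zero]
    exact divisor_of_mem k hdim (hUW hη) (isInvertible_out v) he fun h => hy (Subtype.ext (Subtype.ext h))

theorem exists_class (d : Bd U → ℤ) : ∃ v : Pc X, Rel k hdim hη v d := by
  classical
  haveI := finite_bd k hdim hη
  letI := Fintype.ofFinite (Bd U)
  let G : AddSubgroup (Bd U → ℤ) :=
    { carrier := {d | ∃ v : Pc X, Rel k hdim hη v d}
      add_mem' := by rintro a b ⟨v, hv⟩ ⟨w, hw⟩; exact ⟨v * w, hv.mul hw⟩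
      zero_mem' := ⟨1, rel_one_zero⟩
      neg_mem' := by rintro a ⟨v, hv⟩; exact ⟨v⁻¹, hv.inv⟩ }
  show d ∈ G
  rw [← Finset.univ_sum_single d]
  refine G.sum_mem fun x _ => ?_
  have h : (Pi.single x (d x) : Bd U → ℤ) = d x • Pi.single x 1 := by rw [← Pi.single_smul', smul_eq_mul, mul_one]
  rw [h]
  exact G.zsmul_mem ⟨((O k hdim x.1)⁻¹)⁻¹, by simpa only [neg_neg] using (rel_O x).inv⟩ _

variable (k hdim hη) in
/-- The class of a divisor supported on the boundary. -/
def cls : (Bd U → ℤ) →+ Additive (Pc X) :=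
  AddMonoidHom.mk' (fun d => Additive.ofMul (exists_class (k := k) (hdim := hdim) (hη := hη) d).choose) fun a b => by
    rw [← ofMul_mul]
    exact congrArg Additive.ofMul (Rel.unique (exists_class (a + b)).choose_spec
      ((exists_class a).choose_spec.mul (exists_class b).choose_spec))

theorem rel_cls (d : Bd U → ℤ) : Rel k hdim hη (cls k hdim hη d).toMul d := (exists_class d).choose_spec

theorem cls_eq_zero_iff (d : Bd U → ℤ) : cls k hdim hη d = 0 ↔ d ∈ (dvHom k hdim hη).range := by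
  constructor
  · intro h
    have h' := rel_cls (k := k) (hdim := hdim) (hη := hη) d
    rw [h, toMul_zero] at h'
    obtain ⟨a, ha⟩ := h'.exists_unit
    exact ⟨Additive.ofMul a, ha⟩
  · rintro ⟨a, rfl⟩
    exact congrArg Additive.ofMul (Rel.unique (rel_cls _) (rel_one_dv a.toMul))

theorem mem_range_cls (v : Pc X) : pullPc U.ι v = 1 ↔ Additive.ofMul v ∈ (cls k hdim hη).range := by
  constructor
  · intro h
    obtain ⟨d, hd⟩ := exists_rel (k := k) (hdim := hdim) (hη := hη) h
    exact ⟨d, congrArg Additive.ofMul (Rel.unique (rel_cls d) hd)⟩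
  · rintro ⟨d, hd⟩
    have h := (rel_cls (k := k) (hdim := hdim) (hη := hη) d).trivial_open
    rwa [hd, toMul_ofMul] at h

theorem dg_cls [Fintype (Bd U)] (d : Bd U → ℤ) : dg k (cls k hdim hη d).toMul = ∑ x, d x := by
  classical
  let D : (Bd U → ℤ) →+ ℤ := AddMonoidHom.mk' (fun d => dg k (cls k hdim hη d).toMul) fun a b => by
    rw [map_add, toMul_add, JacVarLib.dg_mul k hdim]
  have hD : ∀ x, D (Pi.single x 1) = 1 := fun x => by
    show dg k (cls k hdim hη (Pi.single x 1)).toMul = 1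
    have h : Rel k hdim hη (O k hdim x.1) (Pi.single x 1) := by
      simpa only [inv_inv, neg_neg] using (rel_O (k := k) (hdim := hdim) (hη := hη) x).inv
    rw [Rel.unique (rel_cls _) h, JacVarLib.dg_O k hdim]
  show D d = _
  conv_lhs => rw [← Finset.univ_sum_single d]
  rw [map_sum]
  refine Finset.sum_congr rfl fun x _ => ?_
  rw [show (Pi.single x (d x) : Bd U → ℤ) = d x • Pi.single x 1 by rw [← Pi.single_smul', smul_eq_mul, mul_one],
    map_zsmul, hD, smul_eq_mul, mul_one]

/-- A unit without zeros and poles on the boundary is a power. -/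
theorem exists_nsmul_of_dvHom_eq_zero {a : Additive Γ(X, U)ˣ} (ha : dvHom k hdim hη a = 0) {n : ℕ} (hn : 1 ≤ n) :
    ∃ b, n • b = a := by
  haveI := CurveCohLib.isNoetherian_of_proper (k := k) (X := X)
  have hall : ∀ z ∈ (⊤ : X.Opens), InR z (gU hη (a.toMul : Γ(X, U))) := by
    intro z _
    by_cases hz : z ∈ U
    · exact CurveCohLib.Polar.inR_gη hz _
    · rcases CurveFF.eq_or_isClosed k X hdim z with rfl | hc
      · exact absurd hη hz
      refine (CurveFF.inR_iff k X hdim ⟨z, hc⟩ _).2 ?_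
      have h := exp_dv (k := k) (hdim := hdim) (hη := hη) a.toMul ⟨⟨z, hc⟩, hz⟩
      rw [show dv k hdim hη a.toMul ⟨⟨z, hc⟩, hz⟩ = 0 from congrFun ha _, WithZero.exp_zero] at h
      exact le_of_eq (inv_eq_one.1 h.symm)
  obtain ⟨r, hr⟩ := CurveCohLib.Polar.exists_of_forall_inR hall
  have hr' : resR (le_top : U ≤ ⊤) r = (a.toMul : Γ(X, U)) := by
    refine germ_injective_of_isIntegral (X := X) (genericPoint X) hη ?_
    refine Eq.trans ?_ (hr (show genericPoint X ∈ (⊤ : X.Opens) from trivial))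
    exact X.presheaf.germ_res_apply (homOfLE (le_top : U ≤ ⊤)) (genericPoint X) hη r
  haveI : GeometricallyConnected (X ↘ Spec (CommRingCat.of k)) := PicTors.geomConn k X
  have hb : Function.Bijective (X ↘ Spec (CommRingCat.of k)).appTop :=
    CurveBC.bijective_appTop k X (CurveBC.finrank_h0_of_geometricallyConnected k X)
  let φ : k →+* Γ(X, ⊤) := (X ↘ Spec (CommRingCat.of k)).appTop.hom.comp (Scheme.ΓSpecIso (CommRingCat.of k)).inv.hom
  have hφ : Function.Bijective φ :=
    hb.comp (ConcreteCategory.bijective_of_isIso (Scheme.ΓSpecIso (CommRingCat.of k)).inv)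
  obtain ⟨c, rfl⟩ := hφ.2 r
  obtain ⟨d, rfl⟩ := IsAlgClosed.exists_pow_nat_eq c (Nat.pos_of_ne_zero (by omega : n ≠ 0))
  rw [map_pow, map_pow] at hr'
  have hu : IsUnit (resR (le_top : U ≤ ⊤) (φ d)) := (isUnit_pow_iff (by omega : n ≠ 0)).1 (hr' ▸ a.toMul.isUnit)
  refine ⟨Additive.ofMul hu.unit, ?_⟩
  rw [← ofMul_pow]
  refine (congrArg Additive.ofMul (Units.ext ?_)).trans (ofMul_toMul a)
  rw [Units.val_pow_eq_pow_val, IsUnit.unit_spec]
  exact hr'

end Groth.Agent.CurveKummer
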