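import Groth.Agent.CurveKummer.Curve
import Groth.Agent.CurveKummer.Div
import Groth.Agent.CurveKummer.Count
import Groth.Agent.CurveKummer.ConstTors
import Groth.Agent.TorsPtsLib.Group
import Groth.Agent.PicTors.H1

/-!
# Degree one cohomology with finite coefficients of an open part of a curve
-/

set_option autoImplicit false
set_option maxHeartbeats 1600000
set_option linter.style.haveILetI false
set_option linter.unusedSectionVars false
set_option backward.isDefEq.respectTransparency false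
set_option backward.isDefEq.respectTransparency.types false

universe u

open CategoryTheory CategoryTheory.Limits AlgebraicGeometry TopologicalSpace Opposite CategoryTheory.Abelian

noncomputable section

namespace Groth.Agent.CurveKummer

open Groth.Agent Groth.Agent.H23 Groth.Agent.H23.PicMul
open Groth.Agent.JacVarLib (Pc Pt pullPc pullPc_val ext_val out cl_out isInvertible_out dg O)
open scoped Groth.Agent.H23.PicMul

/-- Kernels of multiplication along an isomorphism. -/
theorem card_nsmul_ker {A B : Type*} [AddCommGroup A] [AddCommGroup B] (e : A ≃+ B) (n : ℕ) :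
    Nat.card (nsmulAddMonoidHom n : A →+ A).ker = Nat.card (nsmulAddMonoidHom n : B →+ B).ker :=
  Nat.card_congr (e.toEquiv.subtypeEquiv fun a => by
    show n • a = 0 ↔ n • e a = 0
    rw [← map_nsmul, map_eq_zero_iff e e.injective])

/-- Cokernels of multiplication along an isomorphism. -/
theorem card_nsmul_coker {A B : Type*} [AddCommGroup A] [AddCommGroup B] (e : A ≃+ B) (n : ℕ) :
    Nat.card (A ⧸ (nsmulAddMonoidHom n : A →+ A).range) = Nat.card (B ⧸ (nsmulAddMonoidHom n : B →+ B).range) := by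
  refine Nat.card_congr (QuotientAddGroup.congr _ _ e ?_).toEquiv
  ext b
  constructor
  · rintro ⟨a, ⟨c, rfl⟩, rfl⟩
    exact ⟨e c, (map_nsmul e n c).symm⟩
  · rintro ⟨c, rfl⟩
    refine ⟨n • e.symm c, ⟨e.symm c, rfl⟩, ?_⟩
    show e (n • e.symm c) = n • c
    rw [map_nsmul, e.apply_symm_apply]

/-- The count from the Kummer sequence. -/
theorem card_h1_mu {X : Scheme.{u}} {n : ℕ} [NeZero n] (h : Epi (EtCoh.powMap X n)) :
    Nat.card (EtCoh.H X (EtCoh.mu X n) 1) =
      Nat.card (Additive Γ(X, ⊤)ˣ ⧸ (nsmulAddMonoidHom n : Additive Γ(X, ⊤)ˣ →+ _).range) *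
        Nat.card (nsmulAddMonoidHom n : EtCoh.H X (EtCoh.Gm X) 1 →+ _).ker := by
  let ι : EtCoh.H X (EtCoh.mu X n) 1 →+ EtCoh.H X (EtCoh.Gm X) 1 := Sheaf.H.map (EtCoh.muι X n) 1
  let β : EtCoh.H X (EtCoh.Gm X) 0 →+ EtCoh.H X (EtCoh.mu X n) 1 := EtSix.kummerBoundary h 0
  have hr : ι.range = (nsmulAddMonoidHom n : EtCoh.H X (EtCoh.Gm X) 1 →+ _).ker := by
    ext ξ
    rw [AddMonoidHom.mem_ker, nsmulAddMonoidHom_apply]
    constructor
    · rintro ⟨y, rfl⟩
      exact (PicTors.map_powMap (n := n) _).symm.trans (muι_powMap_H y)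
    · intro hξ
      exact exists_muι_of_nsmul h hξ
  have hk : ι.ker = β.range := by
    ext x
    constructor
    · exact fun hx => exists_boundary_of_muι h hx
    · rintro ⟨z, rfl⟩
      exact muι_boundary h z
  have hb : β.ker = (nsmulAddMonoidHom n : EtCoh.H X (EtCoh.Gm X) 0 →+ _).range := by
    ext z
    constructor
    · exact fun hz => exists_nsmul_of_boundary_eq_zero h hz
    · rintro ⟨b, rfl⟩
      exact boundary_nsmul h b
  let E : EtCoh.H X (EtCoh.Gm X) 0 ≃+ Additive Γ(X, ⊤)ˣ :=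
    (Sheaf.H.equiv₀ (EtCoh.Gm X) (EtCore.topIsTerminal X)).trans (topUnitsEquiv X)
  rw [card_eq_range_mul_ker ι, hr, hk, ← card_nsmul_coker E n, ← hb,
    ← Nat.card_congr (QuotientAddGroup.quotientKerEquivRange β).toEquiv, mul_comm]

variable (k : Type u) [Field k] [IsAlgClosed k] {X : Scheme.{u}} [X.Over (Spec (CommRingCat.of k))]
  [IsIntegral X] [IsProper (X ↘ Spec (CommRingCat.of k))] [Smooth (X ↘ Spec (CommRingCat.of k))]
  (hdim : topologicalKrullDim X = 1)

include k hdim in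
theorem pullPc_surjective (U : X.Opens) (hne : (U : Set X).Nonempty) : Function.Surjective (pullPc U.ι) := fun v => by
  haveI := CurveCohLib.isNoetherian_of_proper (k := k) (X := X)
  obtain ⟨L', hL', ⟨e⟩⟩ := InvUfdLib.exists_extension_of_ufd U (out v) (isInvertible_out v) fun z hz => by
    haveI := CurveFF.isDVR k X hdim (isClosed_of_not_mem U hne hdim hz)
    infer_instance
  refine ⟨JacVarLib.mk L' hL', ext_val ?_⟩
  rw [pullPc_val, JacVarLib.mk_val, ← cl_out v]
  exact cl_eq_iff.2 ⟨((Scheme.Modules.restrictFunctorIsoPullback U.ι).app L').symm ≪≫ e⟩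

include hdim in
/-- The order of degree one cohomology with finite coefficients of a proper open part. -/
theorem card_h1_open (U : X.Opens) (hη : genericPoint X ∈ U) [Nonempty (Bd U)] [Fintype (Bd U)] {n : ℕ} [NeZero n]
    (hn : (n : k) ≠ 0) :
    Nat.card (EtCoh.H (U : Scheme.{u}) (EtCoh.mu (U : Scheme.{u}) n) 1) =
      n ^ (2 * Curv2.genus k X + Fintype.card (Bd U) - 1) := by
  have hn0 : 1 ≤ n := NeZero.pos n
  rw [card_h1_mu (S0108.result _ n (isUnit_cast (U.ι ≫ X ↘ Spec (CommRingCat.of k)) hn))]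
  obtain ⟨P⟩ := nonempty_pc_equiv_h1 (U : Scheme.{u})
  rw [← card_nsmul_ker P n, card_nsmul_coker
    (MulEquiv.toAdditive (Units.mapEquiv U.topIso.commRingCatIsoToRingEquiv.toMulEquiv)) n]
  let δ : Additive (Pc X) →+ ℤ := AddMonoidHom.mk' (fun v => dg k v.toMul) fun v w => JacVarLib.dg_mul k hdim _ _
  have hc := card_count (dvHom k hdim hη) (cls k hdim hη) (MonoidHom.toAdditive (pullPc U.ι)) δ n
    (fun e => dg_cls (k := k) (hdim := hdim) (hη := hη) e)
    (fun v hv => by
      obtain ⟨w, hw⟩ := (exists_pow_eq_iff k hdim n hn0 v.toMul).2 hv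
      exact ⟨Additive.ofMul w, congrArg Additive.ofMul hw⟩)
    (fun e => cls_eq_zero_iff (k := k) (hdim := hdim) (hη := hη) e)
    (fun w hw => exists_nsmul_of_dvHom_eq_zero hw hn0)
    (fun v => by
      obtain ⟨w, hw⟩ := pullPc_surjective k hdim U ⟨_, hη⟩ v.toMul
      exact ⟨Additive.ofMul w, congrArg Additive.ofMul hw⟩)
    (fun v => ⟨fun hv => (mem_range_cls v.toMul).1 (congrArg Additive.toMul hv),
      fun hv => congrArg Additive.ofMul ((mem_range_cls (k := k) (hdim := hdim) (hη := hη) v.toMul).2 hv)⟩)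
  rw [hc]
  have ht : Nat.card (nsmulAddMonoidHom n : Additive (Pc X) →+ _).ker = n ^ (2 * Curv2.genus k X) := by
    rw [← PicTors.card_torsCl k X hdim (isUnit_iff_ne_zero.2 hn), Nat.card_congr (PicTors.torsClEquiv X n)]
    exact Nat.card_congr
      { toFun := fun v => ⟨v.1.toMul, congrArg Additive.toMul v.2⟩
        invFun := fun v => ⟨Additive.ofMul v.1, congrArg Additive.ofMul v.2⟩
        left_inv := fun _ => rfl
        right_inv := fun _ => rfl }
  rw [ht, ← pow_add]
  congr 1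
  have := Fintype.card_pos (α := Bd U)
  omega

include hdim in
/-- Degree one cohomology with finite coefficients of a proper open part of a curve. -/
theorem nonempty_h1_open (U : X.Opens) (hne : (U : Set X).Nonempty) (r : ℕ) (hr : 1 ≤ r)
    (hUr : Nat.card ↥((U : Set X)ᶜ) = r) {n : ℕ} [NeZero n] (hn : (n : k) ≠ 0) :
    Nonempty (EtCoh.H (U : Scheme.{u}) (EtCoh.mu (U : Scheme.{u}) n) 1 ≃+
      (Fin (2 * Curv2.genus k X + r - 1) → ZMod n)) := by
  have hη : genericPoint X ∈ U := ((genericPoint_spec X).mem_open_set_iff U.isOpen).2 (by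
    rwa [Set.univ_inter])
  have e : Bd U ≃ ↥((U : Set X)ᶜ) :=
    { toFun := fun x => ⟨x.1.1, x.2⟩
      invFun := fun y => ⟨⟨y.1, isClosed_of_not_mem U hne hdim y.2⟩, y.2⟩
      left_inv := fun _ => rfl
      right_inv := fun _ => rfl }
  haveI := finite_bd k hdim hη
  letI := Fintype.ofFinite (Bd U)
  have hB : Fintype.card (Bd U) = r := by rw [← Nat.card_eq_fintype_card, Nat.card_congr e, hUr]
  haveI : Nonempty (Bd U) := Fintype.card_pos_iff.1 (by omega)
  obtain ⟨y⟩ := ‹Nonempty (Bd U)›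
  let g := U.ι ≫ X ↘ Spec (CommRingCat.of k)
  have hd : ∀ d, d ∣ n → (d : k) ≠ 0 ∧ d ≠ 0 := fun d ⟨m, hm⟩ =>
    ⟨fun h0 => hn (by rw [hm, Nat.cast_mul, h0, zero_mul]), fun h0 => NeZero.ne n (by rw [hm, h0, zero_mul])⟩
  have hiso : ∀ d, d ∣ n → ∀ q, Nonempty (EtCoh.H (U : Scheme.{u}) (EtCoh.const (U : Scheme.{u}) (ZMod d)) q ≃+
      EtCoh.H (U : Scheme.{u}) (EtCoh.mu (U : Scheme.{u}) d) q) := fun d hdn q => by
    haveI : NeZero d := ⟨(hd d hdn).2⟩
    obtain ⟨ζ, hζ⟩ := exists_cyclotomic k g (hd d hdn).1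
    haveI := EtLC12.MuConst.isIso_constToMu (isUnit_cast g (hd d hdn).1) ζ hζ
    exact ⟨PicTors.hIso (asIso (EtLC12.MuConst.constToMu ζ hζ)) q⟩
  have h0 : ∀ d, d ∣ n → Nat.card (EtCoh.H (U : Scheme.{u}) (EtCoh.const (U : Scheme.{u}) (ZMod d)) 0) = d := fun d hdn => by
    haveI : NeZero d := ⟨(hd d hdn).2⟩
    haveI : NeZero (d : k) := ⟨(hd d hdn).1⟩
    obtain ⟨e1⟩ := hiso d hdn 0
    obtain ⟨e2⟩ := (open_mu k hdim U hne y.1.1 y.2 (hd d hdn).1).1
    rw [Nat.card_congr e1.toEquiv, Nat.card_congr e2.toEquiv, Nat.card_congr Additive.toMul]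
    exact HasEnoughRootsOfUnity.natCard_rootsOfUnity k d
  have hcard : ∀ d, d ∣ n → Nat.card (EtCoh.H (U : Scheme.{u}) (EtCoh.const (U : Scheme.{u}) (ZMod d)) 1) =
      d ^ (2 * Curv2.genus k X + r - 1) := fun d hdn => by
    haveI : NeZero d := ⟨(hd d hdn).2⟩
    obtain ⟨e1⟩ := hiso d hdn 1
    rw [Nat.card_congr e1.toEquiv, card_h1_open k hdim U hη (hd d hdn).1, hB]
  obtain ⟨en⟩ := hiso n dvd_rfl 1
  let G := EtCoh.H (U : Scheme.{u}) (EtCoh.const (U : Scheme.{u}) (ZMod n)) 1
  haveI : Finite G := Nat.finite_of_card_ne_zero (by rw [hcard n dvd_rfl]; exact (pow_pos (NeZero.pos n) _).ne')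
  have hkill : ∀ x : G, n • x = 0 := fun x => by
    have hz : n • 𝟙 (EtCoh.const (U : Scheme.{u}) (ZMod n)) = 0 := by
      haveI : (EtCore.gsec (U : Scheme.{u})).Additive := ⟨fun {_ _ _ _} => rfl⟩
      haveI : (constantSheaf (U : Scheme.{u}).smallEtaleTopology AddCommGrpCat.{u + 1}).Additive :=
        (EtCore.constAdj (U : Scheme.{u})).left_adjoint_additive
      have h1 : n • 𝟙 (AddCommGrpCat.of (ULift.{u + 1} (ZMod n))) = 0 := by
        ext x
        show n • (x : ULift.{u + 1} (ZMod n)).down = 0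
        rw [nsmul_eq_mul, ZMod.natCast_self, zero_mul]
      rw [← CategoryTheory.Functor.map_id, ← Functor.map_nsmul, h1, Functor.map_zero]
    rw [← map_nsmul_id, hz, Sheaf.H.map_apply, Ext.mk₀_zero, Ext.comp_zero]
  obtain ⟨E⟩ := TorsPtsLib.nonempty_mulEquiv_zmod_pow n (NeZero.pos n) (2 * Curv2.genus k X + r - 1) (Multiplicative G)
    (fun x => congrArg Multiplicative.ofAdd (hkill x.toAdd)) fun d hdn => by
      obtain ⟨m, hm⟩ := id hdn
      rw [← hcard d hdn, ← card_torsion_const (X := (U : Scheme.{u})) hm.symm h0]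
      exact Nat.card_congr
        { toFun := fun x => ⟨x.1.toAdd, congrArg Multiplicative.toAdd x.2⟩
          invFun := fun x => ⟨Multiplicative.ofAdd x.1, congrArg Multiplicative.ofAdd x.2⟩
          left_inv := fun _ => rfl
          right_inv := fun _ => rfl }
  exact ⟨en.symm.trans (AddEquiv.toMultiplicative.symm E)⟩

end Groth.Agent.CurveKummer
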