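import Groth.Agent.PicTors.Main
import Groth.Agent.PicRep.IsJac
import Groth.Agent.InvUfdLib.Pushforward
import Groth.Agent.CurveFF.Base
import Groth.Agent.CurveCohLib.Proper
import Groth.Agent.S13792

/-!
# Divisibility of classes of degree zero on a curve and of classes on its affine open parts
-/

set_option autoImplicit false
set_option maxHeartbeats 1600000
set_option linter.style.haveILetI false
set_option linter.unusedSectionVars false
set_option backward.isDefEq.respectTransparency false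
set_option backward.isDefEq.respectTransparency.types false

universe u

open CategoryTheory CategoryTheory.Limits AlgebraicGeometry TopologicalSpace Opposite
  MonoidalCategory CartesianMonoidalCategory

noncomputable section

namespace Groth.Agent.CurveKummer

open Groth.Agent Groth.Agent.H23 Groth.Agent.H23.PicMul
open Groth.Agent.JacVarLib (InvU Pc Pt pullPc pullPc_val pullPc_comp ext_val out cl_out isInvertible_out dg O)
open scoped Groth.Agent.H23.PicMul MonObj

variable (k : Type u) [Field k] [IsAlgClosed k] {X : Scheme.{u}} [X.Over (Spec (CommRingCat.of k))]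
  [IsIntegral X] [IsProper (X ↘ Spec (CommRingCat.of k))] [Smooth (X ↘ Spec (CommRingCat.of k))]
  (hdim : topologicalKrullDim X = 1)

local notation "fX" => (X ↘ Spec (CommRingCat.of k))
local notation "pt₀" => (𝟙_ (Over (Spec (CommRingCat.of k))))

include hdim in
/-- Classes of degree zero are divisible. -/
theorem exists_pow_eq_of_dg_zero (v : Pc X) (hv : dg k v = 0) (n : ℕ) (hn : 1 ≤ n) :
    ∃ w : Pc X, w ^ n = v := by
  haveI : GeometricallyConnected fX := PicTors.geomConn k X
  haveI : GeometricallyIrreducible fX := PicTors.geomIrred k X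
  haveI := PicRep.smoothOfRelativeDimension_one k X hdim
  haveI : JacobsonSpace X := LocallyOfFiniteType.jacobsonSpace fX
  obtain ⟨x, -, hx⟩ := nonempty_inter_closedPoints (X := X) (Z := Set.univ) ⟨genericPoint X, trivial⟩
    isOpen_univ.isLocallyClosed
  let σ := pointOfClosedPoint fX x hx
  have hσ : σ ≫ fX = 𝟙 _ := pointOfClosedPoint_comp fX x hx
  obtain ⟨J, ⟨r⟩, hp, hs, hc, hi⟩ := PicRep.exists_jacobian (X := X) σ hσ hdim
  letI := PicRep.commGrpObj r
  haveI := hp
  haveI := hs
  haveI := hc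
  haveI := TorsPtsLib.geometricallyIntegral J
  let e : (pt₀ ⟶ J) ≃* ↥(PicRep.RZ fX σ hσ pt₀) :=
    ((yonedaGrpObjIsoOfRepresentableBy J (PicRep.grp0 fX σ hσ ⋙ forget₂ CommGrpCat GrpCat) r).app
      (op pt₀)).groupIsoToMulEquiv.trans (Shrink.mulEquiv (α := PicRep.RZ fX σ hσ pt₀))
  let E := JacVarLib.upMod k v
  have hcl : PicF.cl E = JacVarLib.up k v := JacVarLib.cl_upMod k v
  have hE : PicF.IsInvertible E := PicClLib.isInvertible_pullback _ (isInvertible_out v)
  have hmem : pullPc (JacVarLib.q0 k) v ∈ PicRep.RZ fX σ hσ pt₀ := by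
    refine ⟨?_, ?_⟩
    · have h1 : ∀ w : Pc (pt₀).left, w = 1 := fun w => ext_val (by
        rw [← cl_out w]
        exact AVDualCx.trivial_of_isLocalRing (C := k) (isInvertible_out w))
      exact h1 _
    · have h := (PicRep.fibDeg_iff fX hE).1 (JacVarLib.ok_of k hv hcl).2
      rwa [show PicRep.toPc (PicF.cl E) ⟨E, rfl, hE⟩ = pullPc (JacVarLib.q0 k) v from
        ext_val (by rw [PicRep.toPc_val, hcl, pullPc_val]; rfl)] at h
  obtain ⟨a, ha⟩ := TorsPtsLib.exists_pow_eq (A := J) n hn (e.symm ⟨_, hmem⟩)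
  refine ⟨pullPc (JacVarLib.i0 k) (e a).1, ?_⟩
  rw [← map_pow, ← SubmonoidClass.coe_pow, ← map_pow, ha, MulEquiv.apply_symm_apply]
  show pullPc (JacVarLib.i0 k) (pullPc (JacVarLib.q0 k) v) = v
  rw [pullPc_comp, JacVarLib.i0_q0, PicRep.pullPc_id]

include hdim in
theorem dg_O_zpow (x : Pt X) (a : ℤ) : dg k (O k hdim x ^ a) = a := by
  obtain ⟨b, rfl | rfl⟩ := Int.eq_nat_or_neg a
  · rw [zpow_natCast, JacVarLib.dg_pow k hdim, JacVarLib.dg_O k hdim, mul_one]
  · rw [zpow_neg, zpow_natCast, JacVarLib.dg_inv k hdim, JacVarLib.dg_pow k hdim, JacVarLib.dg_O k hdim, mul_one]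

include hdim in
/-- The multiples are the classes of divisible degree. -/
theorem exists_pow_eq_iff (n : ℕ) (hn : 1 ≤ n) (v : Pc X) :
    (∃ w : Pc X, w ^ n = v) ↔ (n : ℤ) ∣ dg k v := by
  constructor
  · rintro ⟨w, rfl⟩
    rw [JacVarLib.dg_pow k hdim]
    exact dvd_mul_right _ _
  · rintro ⟨m, hm⟩
    haveI : JacobsonSpace X := LocallyOfFiniteType.jacobsonSpace fX
    obtain ⟨x, -⟩ := JacVarLib.exists_pt_mem k (U := (Set.univ : Set X)) isOpen_univ ⟨genericPoint X, trivial⟩
    obtain ⟨w, hw⟩ := exists_pow_eq_of_dg_zero k hdim (v / O k hdim x ^ (dg k v))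
      (by rw [JacVarLib.dg_div k hdim, dg_O_zpow, sub_self]) n hn
    refine ⟨w * O k hdim x ^ m, ?_⟩
    rw [mul_pow, hw, ← zpow_natCast (O k hdim x ^ m) n, ← zpow_mul, mul_comm m, ← hm, div_mul_cancel]

/-- The ideal of a point is trivial away from the point. -/
theorem nonempty_ptMod_restrict (x : Pt X) (U : X.Opens) (hxU : x.1 ∉ U) :
    Nonempty ((CurvePoint.ptMod x.1 x.2).restrict U.ι ≅ Coh.structureModule (U : Scheme.{u})) := by
  haveI := QCoh.restrict_preservesFiniteLimits U.ι
  let R := Scheme.Modules.restrictFunctor U.ι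
  let a := ClSub.idealModι (CurvePoint.ptIdeal x.1 x.2)
  have hS := CurvePoint.shortExact_pt x.1 x.2
  haveI : Mono a := hS.mono_f
  have hS' := hS.map_of_exact R
  have hz : IsZero (R.obj (ClSub.quotMod (CurvePoint.ptIdeal x.1 x.2))) := by
    refine CurveCohLib.isZero_of_subsingleton_stalks fun y => ?_
    exact @Equiv.subsingleton _ _ ((Scheme.Modules.restrictStalkNatIso U.ι y).app _).addCommGroupIsoToAddEquiv.toEquiv
      (CurvePoint.subsingleton_stalk_of_ne x.1 x.2 (x := U.ι y) fun h => hxU (h ▸ y.2))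
  haveI : IsIso (R.map a) := hS'.isIso_f_iff.2 hz
  exact ⟨asIso (R.map a) ≪≫ Scheme.Modules.restrictUnitIso U.ι⟩

/-- The class of a point is trivial away from the point. -/
theorem pullPc_O (x : Pt X) (U : X.Opens) (hxU : x.1 ∉ U) : pullPc U.ι (O k hdim x) = 1 := by
  obtain ⟨e⟩ := nonempty_ptMod_restrict x U hxU
  rw [← inv_eq_one, ← map_inv]
  refine ext_val ?_
  rw [pullPc_val, JacVarLib.O_inv_val]
  exact cl_eq_iff.2 ⟨((Scheme.Modules.restrictFunctorIsoPullback U.ι).app _).symm ≪≫ e⟩

/-- Points outside a nonempty open are closed. -/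
theorem isClosed_of_not_mem (U : X.Opens) (hne : (U : Set X).Nonempty) (hdim' : topologicalKrullDim X = 1)
    {y : X} (hy : y ∉ U) : IsClosed ({y} : Set X) :=
  S13792.isClosed_singleton_of_ne_top hdim'.le U.isOpen.isClosed_compl
    (fun h => by
      have h2 := Set.eq_univ_iff_forall.1 h hne.some
      exact h2 hne.some_mem) hy

include k hdim in
/-- Classes on a proper open part are divisible. -/
theorem exists_pow_eq_open (U : X.Opens) (hne : (U : Set X).Nonempty) (y : X) (hy : y ∉ U)
    (v : Pc (U : Scheme.{u})) (n : ℕ) (hn : 1 ≤ n) : ∃ w : Pc (U : Scheme.{u}), w ^ n = v := by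
  haveI := CurveCohLib.isNoetherian_of_proper (k := k) (X := X)
  obtain ⟨L', hL', ⟨e⟩⟩ := InvUfdLib.exists_extension_of_ufd U (out v) (isInvertible_out v) fun z hz => by
    haveI := CurveFF.isDVR k X hdim (isClosed_of_not_mem U hne hdim hz)
    infer_instance
  let x : Pt X := ⟨y, isClosed_of_not_mem U hne hdim hy⟩
  let V := JacVarLib.mk L' hL'
  have hV : pullPc U.ι V = v := ext_val (by
    rw [pullPc_val, JacVarLib.mk_val, ← cl_out v]
    exact cl_eq_iff.2 ⟨((Scheme.Modules.restrictFunctorIsoPullback U.ι).app L').symm ≪≫ e⟩)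
  obtain ⟨w, hw⟩ := exists_pow_eq_of_dg_zero k hdim (V / O k hdim x ^ (dg k V))
    (by rw [JacVarLib.dg_div k hdim, dg_O_zpow, sub_self]) n hn
  refine ⟨pullPc U.ι w, ?_⟩
  rw [← map_pow, hw, map_div, map_zpow, pullPc_O k hdim x U hy, one_zpow, div_one, hV]

end Groth.Agent.CurveKummer
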